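import Cfsg.Agent.H749.TwoStab
import Cfsg.Agent.H477.HC.Frames

/-!
# The exact degrees `dg F k` up to powers of the characteristic (helper674, S4769)

`card_exact` : `|F.iso| = p ^ b * (|Om k| * |GL k K| * |F'.iso|)`;
`dg_exact` : `|F.iso| = p ^ b * (dg F k * (q ^ k - 1) * |F'.iso|)`;
`pp p n` : the part of `n` prime to `p`; `pp_dg` : `pp |F.iso| = pp (dg F k) * (q ^ k - 1) * pp |F'.iso|`.
-/

set_option autoImplicit false

open Cfsg

namespace Cfsg.Agent.H674.Dl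

open Module Cfsg.Agent.H53.HC Cfsg.Agent.H477.HC Cfsg.Agent.H749.Two

universe u v w

section

variable {K : Type u} [Field K] {V : Type v} [AddCommGroup V] [Module K V] {X : Type w} [AddCommGroup X] [Module K X]
  {F : CForm K V} {F' : CForm K X} {j : X →ₗ[K] V} {W₀ : Submodule K V}

theorem card_stab_dvd [FiniteDimensional K V] [Finite V] [FiniteDimensional K X] [Finite K] (h : Cmp F F' j W₀) {k : ℕ}
    (hW₀ : W₀ ∈ F.Om k) :
    Nat.card (GL (Fin k) K) * Nat.card F'.iso ∣ Nat.card (stabW F.iso.subtype W₀) := by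
  classical
  have := finite_iso F
  obtain ⟨ρ, -, -, hρ⟩ := h.exists_rho
  have e3 : Nat.card (W₀ ≃ₗ[K] W₀) = Nat.card (GL (Fin k) K) :=
    Nat.card_congr (glE (finBasisOfFinrankEq K W₀ hW₀.2)).toEquiv
  rw [← e3, ← Nat.card_prod]
  refine Subgroup.card_dvd_of_surjective ((resHom F.iso.subtype W₀).prod ρ) ?_
  rintro ⟨a, b⟩
  obtain ⟨g, hg, hga⟩ := hρ a b
  refine ⟨g, Prod.ext ?_ hg⟩
  ext w
  exact hga w

/-- a Frm gives a complement -/
theorem cmp_of_frm [FiniteDimensional K V] {k : ℕ} {e f : Fin k → V} (h : CForm.Frm F F' e f j) (hσ : F.σ = F'.σ) :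
    Cmp F F' j (Submodule.span K (Set.range e)) := by
  classical
  refine ⟨hσ, (F.frame_mem_Om h.hee h.hef h.hQe).1, h.hjB, h.hjQ, fun x w hw => ?_, fun v hv => ?_⟩
  · obtain ⟨g, rfl⟩ := (Submodule.mem_span_range_iff_exists_fun K).1 hw
    rw [CForm.B_sum_right]
    exact Finset.sum_eq_zero fun i _ => by rw [h.hje, mul_zero]
  · have hw : ∑ i, F.B v (f i) • e i ∈ Submodule.span K (Set.range e) :=
      (Submodule.mem_span_range_iff_exists_fun K).2 ⟨_, rfl⟩
    obtain ⟨x, hx⟩ := F.frame_decomp F' j h.hee h.hff h.hef h.hjB h.hje h.hjf h.hdim (v - ∑ i, F.B v (f i) • e i)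
      (fun i => by
        rw [F.B_sub_left, hv _ (Submodule.subset_span ⟨i, rfl⟩), CForm.B_sum_left,
          Finset.sum_eq_zero (fun l _ => by rw [h.hee, mul_zero]), sub_zero])
      (fun i => by
        rw [F.B_sub_left, CForm.B_sum_left, Finset.sum_eq_single i]
        · rw [h.hef, if_pos rfl, mul_one, sub_self]
        · intro l _ hl
          rw [h.hef, if_neg hl, mul_zero]
        · intro h; exact absurd (Finset.mem_univ _) h)
    exact ⟨_, hw, x, by rw [← hx]; abel⟩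

theorem frm_mem {k : ℕ} {e f : Fin k → V} (h : CForm.Frm F F' e f j) : Submodule.span K (Set.range e) ∈ F.Om k :=
  F.frame_mem_Om h.hee h.hef h.hQe

/-- **the exact order** -/
theorem card_exact [FiniteDimensional K V] [Finite V] [FiniteDimensional K X] [Finite X] [Finite K] {p : ℕ} [Fact p.Prime]
    [CharP K p]
    {k : ℕ} {e f : Fin k → V} (h : CForm.Frm F F' e f j) (hσ : F.σ = F'.σ) :
    ∃ b, Nat.card F.iso = p ^ b * (Nat.card (F.Om k) * Nat.card (GL (Fin k) K) * Nat.card F'.iso) := by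
  have := finite_iso F
  have := finite_iso F'
  have := finite_Om F k
  obtain ⟨a, ha⟩ := F.card_dvd_frame F' j h.hee h.hff h.hef h.hQe h.hjB h.hjQ h.hje h.hjf h.hdim (p := p)
  have h1 : Nat.card (F.Om k) * Nat.card (GL (Fin k) K) * Nat.card F'.iso ∣ Nat.card F.iso := by
    rw [F.card_iso_eq (frm_mem h), mul_assoc]
    exact Nat.mul_dvd_mul_left _ (card_stab_dvd (cmp_of_frm h hσ) (frm_mem h))
  obtain ⟨c, hc⟩ := h1
  have hpos : 0 < Nat.card F.iso := Nat.card_pos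
  have hX : 0 < Nat.card (F.Om k) * Nat.card (GL (Fin k) K) * Nat.card F'.iso := by
    rcases Nat.eq_zero_or_pos (Nat.card (F.Om k) * Nat.card (GL (Fin k) K) * Nat.card F'.iso) with h0 | h0
    · rw [hc, h0, zero_mul] at hpos; exact absurd hpos (lt_irrefl 0)
    · exact h0
  have h2 : c ∣ p ^ a := by
    rw [hc, mul_comm (p ^ a)] at ha
    exact Nat.dvd_of_mul_dvd_mul_left hX ha
  obtain ⟨b, -, hb⟩ := (Nat.dvd_prime_pow Fact.out).1 h2
  exact ⟨b, by rw [hc, hb, mul_comm]⟩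

/-- **the degree, exactly** -/
theorem dg_exact [FiniteDimensional K V] [Finite V] [FiniteDimensional K X] [Finite X] [Finite K] {p : ℕ} [Fact p.Prime]
    [CharP K p]
    {k : ℕ} (hk : 0 < k) {e f : Fin k → V} (h : CForm.Frm F F' e f j) (hσ : F.σ = F'.σ) :
    ∃ b, Nat.card F.iso = p ^ b * (dg F k * (Nat.card K ^ k - 1) * Nat.card F'.iso) := by
  obtain ⟨b, hb⟩ := card_exact (p := p) h hσ
  obtain ⟨s, hs⟩ := card_GL_eq K k hk
  obtain ⟨t, ht⟩ := card_pow K p
  refine ⟨b + t * s, ?_⟩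
  rw [hb, hs]
  unfold dg
  have h1 : Nat.card K ^ s = p ^ (t * s) := by rw [ht, pow_mul]
  rw [h1, pow_add]
  ring

end

/-- the part prime to `p` -/
def pp (p n : ℕ) : ℕ := n / p ^ n.factorization p

section pp

variable {p : ℕ}

theorem pp_mul (a b : ℕ) : pp p (a * b) = pp p a * pp p b := Nat.ordCompl_mul a b p

theorem pp_pow_mul (hp : p.Prime) (a n : ℕ) : pp p (p ^ a * n) = pp p n := by
  rw [pp_mul, pp, Nat.ordCompl_self_pow hp, one_mul]

theorem pp_self {n : ℕ} (hn : ¬ p ∣ n) : pp p n = n := by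
  unfold pp
  rw [Nat.factorization_eq_zero_of_not_dvd hn, pow_zero, Nat.div_one]

theorem pp_pos {n : ℕ} (hn : n ≠ 0) : 0 < pp p n := Nat.ordCompl_pos p hn

theorem pp_dvd (n : ℕ) : pp p n ∣ n := Nat.ordCompl_dvd n p

theorem pp_le (n : ℕ) : pp p n ≤ n := Nat.ordCompl_le n p

theorem pp_dvd_pp {a b : ℕ} (h : a ∣ b) : pp p a ∣ pp p b := by
  obtain ⟨c, rfl⟩ := h
  rw [pp_mul]
  exact Dvd.intro _ rfl

theorem pp_pow (hp : p.Prime) (a : ℕ) : pp p (p ^ a) = 1 := Nat.ordCompl_self_pow hp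

theorem pp_one (hp : p.Prime) : pp p 1 = 1 := by
  have := pp_pow hp 0
  rwa [pow_zero] at this

/-- `q^k - 1` is prime to `p` -/
theorem not_dvd_pow_sub (hp : p.Prime) {q s : ℕ} (hq : q = p ^ s) (hs : s ≠ 0) {k : ℕ} (hk : 0 < k) : ¬ p ∣ q ^ k - 1 := by
  intro h
  have h1 : p ∣ q ^ k := by
    rw [hq, ← pow_mul]
    exact dvd_pow_self p (Nat.mul_ne_zero hs hk.ne')
  have h2 : 1 ≤ q ^ k := Nat.one_le_pow _ _ (by rw [hq]; exact pow_pos hp.pos _)
  have h3 : p ∣ 1 := by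
    have h4 := Nat.dvd_sub h1 h
    rwa [Nat.sub_sub_self h2] at h4
  exact hp.one_lt.ne' (Nat.dvd_one.1 h3)

theorem not_dvd_pow_add (hp : p.Prime) {q s : ℕ} (hq : q = p ^ s) (hs : s ≠ 0) {k : ℕ} (hk : 0 < k) : ¬ p ∣ q ^ k + 1 := by
  intro h
  have h1 : p ∣ q ^ k := by
    rw [hq, ← pow_mul]
    exact dvd_pow_self p (Nat.mul_ne_zero hs hk.ne')
  have h3 : p ∣ 1 := (Nat.dvd_add_right h1).1 h
  exact hp.one_lt.ne' (Nat.dvd_one.1 h3)

theorem pp_prod {ι : Type*} (hp : p.Prime) (s : Finset ι) (f : ι → ℕ) :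
    pp p (∏ i ∈ s, f i) = ∏ i ∈ s, pp p (f i) := by
  classical
  induction s using Finset.induction_on with
  | empty => rw [Finset.prod_empty, Finset.prod_empty, pp_one hp]
  | insert a s ha ih => rw [Finset.prod_insert ha, Finset.prod_insert ha, pp_mul, ih]

end pp

section

variable {K : Type u} [Field K] [Finite K] {p : ℕ} [Fact p.Prime] [CharP K p]

theorem card_pow' (K : Type u) [Field K] [Finite K] (p : ℕ) [Fact p.Prime] [CharP K p] :
    ∃ s, Nat.card K = p ^ s ∧ s ≠ 0 := by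
  obtain ⟨s, hs⟩ := card_pow K p
  refine ⟨s, hs, ?_⟩
  rintro rfl
  have h1 : 1 < Nat.card K := Finite.one_lt_card
  rw [hs, pow_zero] at h1
  exact absurd h1 (lt_irrefl 1)

theorem pp_sub (K : Type u) [Field K] [Finite K] (p : ℕ) [Fact p.Prime] [CharP K p] {k : ℕ} (hk : 0 < k) :
    pp p (Nat.card K ^ k - 1) = Nat.card K ^ k - 1 := by
  obtain ⟨s, hs, hs0⟩ := card_pow' K p
  exact pp_self (not_dvd_pow_sub Fact.out hs hs0 hk)

theorem pp_add (K : Type u) [Field K] [Finite K] (p : ℕ) [Fact p.Prime] [CharP K p] {k : ℕ} (hk : 0 < k) :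
    pp p (Nat.card K ^ k + 1) = Nat.card K ^ k + 1 := by
  obtain ⟨s, hs, hs0⟩ := card_pow' K p
  exact pp_self (not_dvd_pow_add Fact.out hs hs0 hk)

theorem pp_q (K : Type u) [Field K] [Finite K] (p : ℕ) [Fact p.Prime] [CharP K p] (k n : ℕ) :
    pp p (Nat.card K ^ k * n) = pp p n := by
  obtain ⟨s, hs, hs0⟩ := card_pow' K p
  rw [hs, ← pow_mul, pp_pow_mul Fact.out]

theorem pp_A (K : Type u) [Field K] [Finite K] (p : ℕ) [Fact p.Prime] [CharP K p] (s : Finset ℕ) :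
    pp p (∏ i ∈ s, (Nat.card K ^ (2 * (i + 1)) - 1)) = ∏ i ∈ s, (Nat.card K ^ (2 * (i + 1)) - 1) := by
  rw [pp_prod Fact.out]
  exact Finset.prod_congr rfl fun i _ => pp_sub K p (by omega)

variable {V : Type v} [AddCommGroup V] [Module K V] {X : Type w} [AddCommGroup X] [Module K X]
  {F : CForm K V} {F' : CForm K X} {j : X →ₗ[K] V}

/-- **the degree, the part prime to `p`** -/
theorem pp_dg [FiniteDimensional K V] [Finite V] [FiniteDimensional K X] [Finite X]
    {k : ℕ} (hk : 0 < k) {e f : Fin k → V} (h : CForm.Frm F F' e f j) (hσ : F.σ = F'.σ) :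
    pp p (Nat.card F.iso) = pp p (dg F k) * (Nat.card K ^ k - 1) * pp p (Nat.card F'.iso) := by
  obtain ⟨b, hb⟩ := dg_exact (p := p) hk h hσ
  rw [hb, pp_pow_mul Fact.out, pp_mul, pp_mul, pp_sub K p hk]

end

end Cfsg.Agent.H674.Dl
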