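import Cfsg.Agent.H674.Dl.OrthCh
import Cfsg.Agent.H755.Dl.Lin
import Cfsg.Agent.H759.Dl.Small
import Cfsg.Agent.H680.Dl.Hall
import Cfsg.Agent.H477.HC.Rk3Chars

/-!
# Bounds and numerics for the orthogonal rows of S4769 (helper674)
-/

set_option autoImplicit false

open Cfsg

namespace Cfsg.Agent.H674.Dl

open Module Cfsg.Agent.H53.HC Cfsg.Agent.H477.HC Cfsg.Agent.H749.Two Cfsg.Agent.H246.Dl

universe u v w

/-! ### the derived length -/

section bound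

variable {ι : Type} [Fintype ι] [DecidableEq ι] {K : Type u} [Field K] [Finite K]

/-- reindexing -/
noncomputable def reGL {n : ℕ} (e : ι ≃ Fin n) : GL ι K ≃* GL (Fin n) K :=
  Units.mapEquiv (Matrix.reindexAlgEquiv K K e).toMulEquiv

theorem dlLe_pomega (Q : (ι → K) → K) {r : ℕ} (hr : r.Prime) (hrK : (r : K) ≠ 0) {e : ℕ} (he0 : 0 < e)
    (he : ∀ k, 0 < k → r ∣ Nat.card K ^ k - 1 → e ≤ k) :
    DlLe r (Nat.log r (Fintype.card ι / e) + 1) (POmega K Q) := by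
  have : Fact r.Prime := ⟨hr⟩
  have hf : Function.Surjective (QuotientGroup.mk' (Subgroup.center (Omega K Q))) := QuotientGroup.mk'_surjective _
  let ρ : Omega K Q →* GL (Fin (Fintype.card ι)) K :=
    (reGL (Fintype.equivFin ι)).toMonoidHom.comp ((isometryGroup K Q).subtype.comp (Omega K Q).subtype)
  have hρ : Function.Injective ρ := by
    intro a b h
    have h1 := (reGL (K := K) (Fintype.equivFin ι)).injective h
    exact Subtype.ext (Subtype.ext h1)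
  have : Fintype K := Fintype.ofFinite K
  exact H755.Dl.DlLe_ne_ord (n := Fintype.card ι) hrK he0 he hf hρ

/-- the order of `q` modulo `r` -/
theorem exists_ord {K : Type u} [Field K] [Finite K] {p : ℕ} [Fact p.Prime] [CharP K p] {r : ℕ} (hr : r.Prime)
    (hrp : r ≠ p) : ∃ e, 0 < e ∧ r ∣ Nat.card K ^ e - 1 ∧ ∀ k, 0 < k → r ∣ Nat.card K ^ k - 1 → e ≤ k := by
  classical
  have hcop : Nat.Coprime (Nat.card K) r := ((Nat.Prime.coprime_iff_not_dvd hr).2 (ne_card K (p := p) hr hrp)).symm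
  have hex : ∃ e, 0 < e ∧ r ∣ Nat.card K ^ e - 1 := by
    refine ⟨Nat.totient r, Nat.totient_pos.2 hr.pos, ?_⟩
    have h1 := Nat.ModEq.pow_totient hcop
    exact (Nat.modEq_iff_dvd' (Nat.one_le_pow _ _ Nat.card_pos)).1 h1.symm
  refine ⟨Nat.find hex, (Nat.find_spec hex).1, (Nat.find_spec hex).2, fun k hk h => Nat.find_min' hex ⟨hk, h⟩⟩

theorem cast_ne_zero {K : Type u} [Field K] {p : ℕ} [Fact p.Prime] [CharP K p] {r : ℕ} (hr : r.Prime)
    (hrp : r ≠ p) : (r : K) ≠ 0 := by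
  intro h
  rw [CharP.cast_eq_zero_iff K p] at h
  exact hrp ((Nat.prime_dvd_prime_iff_eq Fact.out hr).1 h).symm

end bound

/-! ### numerics -/

section num

theorem pow_three_gt (L : ℕ) (hL : 2 ≤ L) : 2 * L + 4 < 3 ^ L := by
  induction L, hL using Nat.le_induction with
  | base => norm_num
  | succ n hn ih => rw [pow_succ]; omega

/-- enough characters, `r ≥ 3` -/
theorem num_r {r L n e w : ℕ} (hr : 3 ≤ r) (hL : 2 ≤ L) (he : 0 < e) (h : r ^ L ≤ n / e) (hn : n ≤ 2 * w + 2) :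
    L + 1 ≤ w + 1 - (e + 1) := by
  have h1 : 3 ^ L ≤ n / e := (Nat.pow_le_pow_left hr L).trans h
  have h2 : e * 3 ^ L ≤ n := by
    rw [mul_comm]
    exact (Nat.le_div_iff_mul_le he).1 h1
  have h3 := pow_three_gt L hL
  obtain ⟨x, hx⟩ : ∃ x, 3 ^ L = x + 2 * L + 5 := ⟨3 ^ L - (2 * L + 5), by omega⟩
  obtain ⟨y, rfl⟩ : ∃ y, e = y + 1 := ⟨e - 1, by omega⟩
  rw [hx] at h2
  have h4 : (y + 1) * (x + 2 * L + 5) = y * x + 2 * (y * L) + 5 * y + (x + 2 * L + 5) := by ring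
  rw [h4] at h2
  have h5 : 0 ≤ y * x := Nat.zero_le _
  have h6 : y * 2 ≤ y * L := Nat.mul_le_mul_left _ hL
  omega

theorem pow_two_gt (m : ℕ) (hm : 5 ≤ m) : 2 * m + 2 < 2 ^ (m - 1) := by
  induction m, hm using Nat.le_induction with
  | base => norm_num
  | succ n hn ih =>
    rw [show n + 1 - 1 = n - 1 + 1 by omega, pow_succ]; omega

theorem pow_two_gt' (m : ℕ) (hm : 6 ≤ m) : 2 * m + 2 < 2 ^ (m - 2) := by
  induction m, hm using Nat.le_induction with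
  | base => norm_num
  | succ n hn ih =>
    rw [show n + 1 - 2 = n - 2 + 1 by omega, pow_succ]; omega

theorem num_two {L n m : ℕ} (hm : 5 ≤ m) (h : 2 ^ L ≤ n) (hn : n ≤ 2 * m + 2) : L + 1 ≤ m + 1 - 2 := by
  have h1 := pow_two_gt m hm
  have h2 : 2 ^ L < 2 ^ (m - 1) := by omega
  have h3 := (Nat.pow_lt_pow_iff_right (by norm_num : 1 < 2)).1 h2
  omega

theorem num_two' {L n m : ℕ} (hm : 6 ≤ m) (h : 2 ^ L ≤ n) (hn : n ≤ 2 * m + 2) : L + 1 ≤ m + 1 - 3 := by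
  have h1 := pow_two_gt' m hm
  have h2 : 2 ^ L < 2 ^ (m - 2) := by omega
  have h3 := (Nat.pow_lt_pow_iff_right (by norm_num : 1 < 2)).1 h2
  omega

theorem pow_log_le {r n : ℕ} (hn : n ≠ 0) : r ^ Nat.log r n ≤ n := Nat.pow_log_le_self r hn

end num

/-! ### the sizes of the degrees `dg F k`, `k ≥ 2` -/

section mono

variable (K : Type u) [Field K] [Finite K] (p : ℕ) [Fact p.Prime] [CharP K p]

theorem mono_odd (h2 : (2 : K) ≠ 0) (ho : Odd (Nat.card K)) {m k : ℕ} (hk : 2 ≤ k) (hkm : k ≤ m) :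
    pp p (dg (CForm.oddF K m h2) 2) ≤ pp p (dg (CForm.oddF K m h2) k) := by
  have hq : 2 ≤ Nat.card K := Finite.one_lt_card
  have hq3 := q_ge_three hq ho
  have hsq : 1 * (Nat.card K + 1) < Nat.card K ^ 2 - 1 := by
    obtain ⟨y, hy⟩ : ∃ y, Nat.card K = y + 3 := ⟨Nat.card K - 3, by omega⟩
    rw [hy]
    have : (y + 3) ^ 2 = y * y + 6 * y + 9 := by ring
    have h0 : 0 ≤ y * y := Nat.zero_le _
    omega
  have hstep : ∀ i, 1 < i → i ≤ m → 1 * pp p (dg (CForm.oddF K m h2) (i - 1)) < pp p (dg (CForm.oddF K m h2) i) := by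
    intro i hi hi'
    refine grow hq hi (rec_odd K p h2 ho hi (show i + (m - i) = m by omega))
      (pp_pos_dg_odd K p h2 ho (by omega) (by omega)) (lt_of_lt_of_le hsq ?_)
    exact Nat.sub_le_sub_right (Nat.pow_le_pow_right (by omega) (by omega)) 1
  rcases Nat.lt_or_ge 2 k with h | h
  · have := chain (D := fun i => pp p (dg (CForm.oddF K m h2) i)) (c := 1) le_rfl hstep k 2 (by norm_num) h hkm
    omega
  · have : k = 2 := by omega
    rw [this]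

theorem mono_plus (ho : Odd (Nat.card K)) {m k : ℕ} (hm : 4 ≤ m) (hk : 2 ≤ k) (hkm : k ≤ m) :
    pp p (dg (CForm.plusF K m) 2) ≤ pp p (dg (CForm.plusF K m) k) := by
  have hq : 2 ≤ Nat.card K := Finite.one_lt_card
  have hq3 := q_ge_three hq ho
  have hstep : ∀ i, 1 < i → i ≤ m → 1 * pp p (dg (CForm.plusF K m) (i - 1)) < pp p (dg (CForm.plusF K m) i) := by
    intro i hi hi'
    rcases Nat.lt_or_ge i m with h | h
    · refine grow hq hi (rec_plus K p hi (show 0 < m - i by omega) (show i + (m - i) = m by omega))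
        (pp_pos_dg_plus K p (by omega) (by omega)) ?_
      have h1 : Nat.card K ^ 1 + 1 ≤ Nat.card K ^ (m - i) + 1 :=
        Nat.add_le_add_right (Nat.pow_le_pow_right (by omega) (by omega)) 1
      have h2 : Nat.card K ^ 2 - 1 ≤ Nat.card K ^ (m - i + 1) - 1 :=
        Nat.sub_le_sub_right (Nat.pow_le_pow_right (by omega) (by omega)) 1
      refine lt_of_lt_of_le ?_ (Nat.mul_le_mul h1 h2)
      rw [pow_one, mul_comm 1]
      refine Nat.mul_lt_mul_of_pos_left ?_ (by omega)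
      have h3 : 3 ^ 2 ≤ Nat.card K ^ 2 := Nat.pow_le_pow_left hq3 2
      omega
    · have h3 : i = m := by omega
      rw [h3]
      have hrt := rec_plus_top K p (m := m) (by omega)
      rw [pp_two_odd K p ho] at hrt
      exact grow' hq (by omega) hrt (pp_pos_dg_plus K p (by omega) (by omega)) (by omega) (by norm_num)
  rcases Nat.lt_or_ge 2 k with h | h
  · have := chain (D := fun i => pp p (dg (CForm.plusF K m) i)) (c := 1) le_rfl hstep k 2 (by norm_num) h hkm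
    omega
  · have : k = 2 := by omega
    rw [this]

theorem mono_minus {a b : K} (hab : ∀ z₁ z₂ : K, z₁ ^ 2 + a * z₁ * z₂ + b * z₂ ^ 2 = 0 → z₁ = 0 ∧ z₂ = 0)
    {l k : ℕ} (hk : 2 ≤ k) (hkl : k ≤ l) :
    pp p (dg (CForm.minusF K l a b hab) 2) ≤ pp p (dg (CForm.minusF K l a b hab) k) := by
  rcases Nat.lt_or_ge 2 k with h | h
  · have h1 := chain (D := fun i => pp p (dg (CForm.minusF K l a b hab) i)) (cc_pos (Nat.card K)) (grow_minus K p hab)
      k 2 (by norm_num) h hkl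
    have h2 := cc_pos (Nat.card K)
    have h3 : pp p (dg (CForm.minusF K l a b hab) 2) ≤ cc (Nat.card K) * pp p (dg (CForm.minusF K l a b hab) 2) :=
      Nat.le_mul_of_pos_left _ h2
    omega
  · have : k = 2 := by omega
    rw [this]

/-- the value of `D_2` -/
theorem D2_odd_three (h2 : (2 : K) ≠ 0) (ho : Odd (Nat.card K)) :
    pp p (dg (CForm.oddF K 3 h2) 2) = (Nat.card K ^ 2 + 1) * ((Nat.card K ^ 3 + 1) * (Nat.card K ^ 3 - 1)) := by
  have hq : 2 ≤ Nat.card K := Finite.one_lt_card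
  have h1 := D_odd K p h2 ho (show 0 < 2 by norm_num) (show 2 + 1 = 3 by norm_num)
  rw [AP_two (by norm_num)] at h1
  have e1 : Nat.card K ^ (2 * (1 + 1)) - 1 = (Nat.card K ^ 2 + 1) * (Nat.card K ^ 2 - 1) := sq_sub _ 2
  have e2 : Nat.card K ^ (2 * (1 + 2)) - 1 = (Nat.card K ^ 3 + 1) * (Nat.card K ^ 3 - 1) := sq_sub _ 3
  rw [e1, e2] at h1
  have h3 : 0 < Nat.card K ^ 2 - 1 := by
    have := Nat.one_lt_pow two_ne_zero hq
    omega
  apply Nat.eq_of_mul_eq_mul_right h3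
  rw [h1]
  ring

theorem D2_odd_four (h2 : (2 : K) ≠ 0) (ho : Odd (Nat.card K)) :
    pp p (dg (CForm.oddF K 4 h2) 2) =
      (Nat.card K ^ 3 + 1) * (Nat.card K ^ 3 - 1) * ((Nat.card K ^ 4 + 1) * (Nat.card K ^ 2 + 1)) := by
  have hq : 2 ≤ Nat.card K := Finite.one_lt_card
  have h1 := D_odd K p h2 ho (show 0 < 2 by norm_num) (show 2 + 2 = 4 by norm_num)
  rw [AP_two (by norm_num)] at h1
  have e1 : Nat.card K ^ (2 * (2 + 1)) - 1 = (Nat.card K ^ 3 + 1) * (Nat.card K ^ 3 - 1) := sq_sub _ 3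
  have e2 : Nat.card K ^ (2 * (2 + 2)) - 1 = (Nat.card K ^ 4 + 1) * (Nat.card K ^ 4 - 1) := sq_sub _ 4
  have e3 : Nat.card K ^ 4 - 1 = (Nat.card K ^ 2 + 1) * (Nat.card K ^ 2 - 1) := sq_sub _ 2
  rw [e1, e2, e3] at h1
  have h3 : 0 < Nat.card K ^ 2 - 1 := by
    have := Nat.one_lt_pow two_ne_zero hq
    omega
  apply Nat.eq_of_mul_eq_mul_right h3
  rw [h1]
  ring

theorem D2_plus_four :
    pp p (dg (CForm.plusF K 4) 2) = (Nat.card K ^ 2 + 1) ^ 2 * (Nat.card K ^ 6 - 1) := by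
  have hq : 2 ≤ Nat.card K := Finite.one_lt_card
  have h1 := D_plus K p (show 0 < 2 by norm_num) (show 0 < 2 by norm_num) (show 2 + 2 = 4 by norm_num)
  rw [AP_two (by norm_num)] at h1
  have e1 : Nat.card K ^ (2 * (2 - 1 + 1)) - 1 = (Nat.card K ^ 2 + 1) * (Nat.card K ^ 2 - 1) := sq_sub _ 2
  have e2 : Nat.card K ^ (2 * (2 - 1 + 2)) - 1 = Nat.card K ^ 6 - 1 := rfl
  rw [e1, e2] at h1
  have h3 : 0 < Nat.card K ^ 2 - 1 := by
    have := Nat.one_lt_pow two_ne_zero hq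
    omega
  apply Nat.eq_of_mul_eq_mul_right h3
  apply Nat.eq_of_mul_eq_mul_right h3
  rw [h1]
  ring

theorem D2_minus_three {a b : K} (hab : ∀ z₁ z₂ : K, z₁ ^ 2 + a * z₁ * z₂ + b * z₂ ^ 2 = 0 → z₁ = 0 ∧ z₂ = 0) :
    pp p (dg (CForm.minusF K 3 a b hab) 2) = (Nat.card K ^ 4 + 1) * (Nat.card K ^ 6 - 1) := by
  have hq : 2 ≤ Nat.card K := Finite.one_lt_card
  have h1 := D_minus K p hab (show 0 < 2 by norm_num) (show 2 + 1 = 3 by norm_num)
  rw [AP_two (by norm_num)] at h1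
  have e1 : Nat.card K ^ (2 * (1 + 1)) - 1 = (Nat.card K ^ 2 + 1) * (Nat.card K ^ 2 - 1) := sq_sub _ 2
  have e2 : Nat.card K ^ (2 * (1 + 2)) - 1 = Nat.card K ^ 6 - 1 := rfl
  rw [e1, e2] at h1
  have h3 : 0 < Nat.card K ^ 2 - 1 := by
    have := Nat.one_lt_pow two_ne_zero hq
    omega
  apply Nat.eq_of_mul_eq_mul_right h3
  apply Nat.eq_of_mul_eq_mul_right (show 0 < Nat.card K ^ (1 + 1) + 1 from Nat.succ_pos _)
  rw [h1]
  ring

theorem D2_minus_four {a b : K} (hab : ∀ z₁ z₂ : K, z₁ ^ 2 + a * z₁ * z₂ + b * z₂ ^ 2 = 0 → z₁ = 0 ∧ z₂ = 0) :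
    pp p (dg (CForm.minusF K 4 a b hab) 2) =
      (Nat.card K ^ 5 + 1) * (Nat.card K ^ 3 - 1) * ((Nat.card K ^ 4 + 1) * (Nat.card K ^ 2 + 1)) := by
  have hq : 2 ≤ Nat.card K := Finite.one_lt_card
  have h1 := D_minus K p hab (show 0 < 2 by norm_num) (show 2 + 2 = 4 by norm_num)
  rw [AP_two (by norm_num)] at h1
  have e1 : Nat.card K ^ (2 * (2 + 1)) - 1 = (Nat.card K ^ 3 + 1) * (Nat.card K ^ 3 - 1) := sq_sub _ 3
  have e2 : Nat.card K ^ (2 * (2 + 2)) - 1 = (Nat.card K ^ 4 + 1) * (Nat.card K ^ 4 - 1) := sq_sub _ 4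
  have e3 : Nat.card K ^ 4 - 1 = (Nat.card K ^ 2 + 1) * (Nat.card K ^ 2 - 1) := sq_sub _ 2
  rw [e1, e2, e3] at h1
  have h3 : 0 < Nat.card K ^ 2 - 1 := by
    have := Nat.one_lt_pow two_ne_zero hq
    omega
  apply Nat.eq_of_mul_eq_mul_right h3
  apply Nat.eq_of_mul_eq_mul_right (show 0 < Nat.card K ^ (2 + 1) + 1 from Nat.succ_pos _)
  rw [h1]
  ring

end mono

/-! ### the rank 3 characters -/

section rk

variable (K : Type u) [Field K] [Finite K] (p : ℕ) [Fact p.Prime] [CharP K p]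

/-- removing a power of `q` -/
theorem pp_of_eq {x y : ℕ} {k : ℕ} (h : x = Nat.card K ^ k * y) (hy : ¬ p ∣ y) : pp p x = y := by
  rw [h, pp_q K p, pp_self hy]

omit [Fact p.Prime] in
theorem not_dvd_mul' (hp : p.Prime) {a b : ℕ} (ha : ¬ p ∣ a) (hb : ¬ p ∣ b) : ¬ p ∣ a * b := by
  rw [hp.dvd_mul]; tauto

theorem not_dvd_add (k : ℕ) (hk : 0 < k) : ¬ p ∣ Nat.card K ^ k + 1 := by
  obtain ⟨s, hs, hs0⟩ := card_pow' K p
  exact not_dvd_pow_add Fact.out hs hs0 hk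

include p in
theorem rk_odd_three (h2 : (2 : K) ≠ 0) (ho : Odd (Nat.card K)) :
    ∃ t, Ch (POmega K (quadFormOdd 3 K)) t ∧ 2 ∣ t ∧ t ≠ 0 ∧ 4 * pp p t < pp p (dg (CForm.oddF K 3 h2) 2) := by
  have hq : 2 ≤ Nat.card K := Finite.one_lt_card
  have hq3 := q_ge_three hq ho
  obtain ⟨s, t, -, ht, -, h⟩ := rk3_odd K h2 ho (m := 3) le_rfl
  have h1 : 2 * t = Nat.card K ^ 1 * ((Nat.card K ^ 1 + 1) * (Nat.card K ^ 3 + 1)) := by
    have h3 : ((Nat.card K : ℤ) - 1) ≠ 0 := by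
      have : (2 : ℤ) ≤ Nat.card K := by exact_mod_cast hq
      omega
    have h4 : ((2 * t : ℕ) : ℤ) = ((Nat.card K ^ 1 * ((Nat.card K ^ 1 + 1) * (Nat.card K ^ 3 + 1)) : ℕ) : ℤ) := by
      apply mul_left_cancel₀ h3
      push_cast
      norm_num at h
      linear_combination h
    exact_mod_cast h4
  have hpp : 2 * pp p t = (Nat.card K ^ 1 + 1) * (Nat.card K ^ 3 + 1) := by
    have h3 := pp_of_eq K p h1 (not_dvd_mul' p Fact.out (not_dvd_add K p 1 (by norm_num)) (not_dvd_add K p 3 (by norm_num)))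
    rwa [pp_mul, pp_two_odd K p ho] at h3
  have he : Even (Nat.card K ^ 1 + 1) := (ho.pow).add_one
  have he' : Even (Nat.card K ^ 3 + 1) := (ho.pow).add_one
  refine ⟨t, ht, ?_, ?_, ?_⟩
  · obtain ⟨x, hx⟩ := he.two_dvd
    obtain ⟨y, hy⟩ := he'.two_dvd
    refine ⟨Nat.card K ^ 1 * (x * y), ?_⟩
    rw [hx, hy] at h1
    have : 2 * t = 2 * (2 * (Nat.card K ^ 1 * (x * y))) := by rw [h1]; ring
    omega
  · rintro rfl
    have h5 : 0 < Nat.card K ^ 1 * ((Nat.card K ^ 1 + 1) * (Nat.card K ^ 3 + 1)) := by positivity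
    omega
  · rw [D2_odd_three K p h2 ho]
    have h6 : 4 * pp p t = 2 * ((Nat.card K ^ 1 + 1) * (Nat.card K ^ 3 + 1)) := by rw [← hpp]; ring
    rw [h6, pow_one]
    have h7 : 3 ^ 3 ≤ Nat.card K ^ 3 := Nat.pow_le_pow_left hq3 3
    have h8 : Nat.card K ≤ Nat.card K ^ 2 := Nat.le_self_pow two_ne_zero _
    obtain ⟨B, hB⟩ : ∃ B, Nat.card K ^ 3 = B + 1 := ⟨Nat.card K ^ 3 - 1, by omega⟩
    rw [hB, Nat.add_sub_cancel]
    have h9 : 2 * (Nat.card K + 1) < (Nat.card K ^ 2 + 1) * B := by nlinarith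
    calc 2 * ((Nat.card K + 1) * (B + 1 + 1)) = (2 * (Nat.card K + 1)) * (B + 1 + 1) := by ring
      _ < ((Nat.card K ^ 2 + 1) * B) * (B + 1 + 1) := Nat.mul_lt_mul_of_pos_right h9 (by omega)
      _ = _ := by ring

include p in
theorem rk_odd_four (h2 : (2 : K) ≠ 0) (ho : Odd (Nat.card K)) :
    ∃ t, Ch (POmega K (quadFormOdd 4 K)) t ∧ 2 ∣ t ∧ t ≠ 0 ∧ 4 * pp p t < pp p (dg (CForm.oddF K 4 h2) 2) := by
  have hq : 2 ≤ Nat.card K := Finite.one_lt_card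
  have hq3 := q_ge_three hq ho
  obtain ⟨t, s, ht, -, h, -⟩ := rk3_odd K h2 ho (m := 4) (by norm_num)
  have h1 : 2 * t = Nat.card K ^ 1 * ((Nat.card K ^ 3 + 1) * ((Nat.card K ^ 1 + 1) * (Nat.card K ^ 2 + 1))) := by
    have h3 : ((Nat.card K : ℤ) - 1) ≠ 0 := by
      have : (2 : ℤ) ≤ Nat.card K := by exact_mod_cast hq
      omega
    have h4 : ((2 * t : ℕ) : ℤ) =
        ((Nat.card K ^ 1 * ((Nat.card K ^ 3 + 1) * ((Nat.card K ^ 1 + 1) * (Nat.card K ^ 2 + 1))) : ℕ) : ℤ) := by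
      apply mul_left_cancel₀ h3
      push_cast
      norm_num at h
      linear_combination h
    exact_mod_cast h4
  have hpp : 2 * pp p t = (Nat.card K ^ 3 + 1) * ((Nat.card K ^ 1 + 1) * (Nat.card K ^ 2 + 1)) := by
    have h3 := pp_of_eq K p h1 (not_dvd_mul' p Fact.out (not_dvd_add K p 3 (by norm_num))
      (not_dvd_mul' p Fact.out (not_dvd_add K p 1 (by norm_num)) (not_dvd_add K p 2 (by norm_num))))
    rwa [pp_mul, pp_two_odd K p ho] at h3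
  have he : Even (Nat.card K ^ 1 + 1) := (ho.pow).add_one
  have he' : Even (Nat.card K ^ 3 + 1) := (ho.pow).add_one
  refine ⟨t, ht, ?_, ?_, ?_⟩
  · obtain ⟨x, hx⟩ := he.two_dvd
    obtain ⟨y, hy⟩ := he'.two_dvd
    refine ⟨Nat.card K ^ 1 * (x * y * (Nat.card K ^ 2 + 1)), ?_⟩
    rw [hx, hy] at h1
    have : 2 * t = 2 * (2 * (Nat.card K ^ 1 * (x * y * (Nat.card K ^ 2 + 1)))) := by rw [h1]; ring
    omega
  · rintro rfl
    have h5 : 0 < Nat.card K ^ 1 * ((Nat.card K ^ 3 + 1) * ((Nat.card K ^ 1 + 1) * (Nat.card K ^ 2 + 1))) := by positivity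
    omega
  · rw [D2_odd_four K p h2 ho]
    have h6 : 4 * pp p t = 2 * ((Nat.card K ^ 3 + 1) * ((Nat.card K ^ 1 + 1) * (Nat.card K ^ 2 + 1))) := by rw [← hpp]; ring
    rw [h6, pow_one]
    have h7 : 3 ^ 3 ≤ Nat.card K ^ 3 := Nat.pow_le_pow_left hq3 3
    have h8 : Nat.card K ≤ Nat.card K ^ 4 := Nat.le_self_pow (by norm_num) _
    obtain ⟨B, hB⟩ : ∃ B, Nat.card K ^ 3 = B + 1 := ⟨Nat.card K ^ 3 - 1, by omega⟩
    rw [hB, Nat.add_sub_cancel]
    have h9 : 2 * (Nat.card K + 1) < B * (Nat.card K ^ 4 + 1) := by nlinarith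
    calc 2 * ((B + 1 + 1) * ((Nat.card K + 1) * (Nat.card K ^ 2 + 1)))
        = (2 * (Nat.card K + 1)) * ((B + 1 + 1) * (Nat.card K ^ 2 + 1)) := by ring
      _ < (B * (Nat.card K ^ 4 + 1)) * ((B + 1 + 1) * (Nat.card K ^ 2 + 1)) :=
        Nat.mul_lt_mul_of_pos_right h9 (by positivity)
      _ = _ := by ring

include p in
theorem rk_plus_four (ho : Odd (Nat.card K)) :
    ∃ t, Ch (POmega K (quadFormPlus 4 K)) t ∧ 2 ∣ t ∧ t ≠ 0 ∧ 4 * pp p t < pp p (dg (CForm.plusF K 4) 2) := by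
  have hq : 2 ≤ Nat.card K := Finite.one_lt_card
  have hq3 := q_ge_three hq ho
  obtain ⟨t, s, ht, -, h, -⟩ := rk3_plus K (m := 4) le_rfl
  have h1 : t = Nat.card K ^ 1 * ((Nat.card K ^ 2 + 1) * (Nat.card K ^ 2 + 1)) := by
    have h3 : ((Nat.card K : ℤ) ^ 2 - 1) ≠ 0 := by
      have : (2 : ℤ) ≤ Nat.card K := by exact_mod_cast hq
      nlinarith
    have h4 : ((t : ℕ) : ℤ) = ((Nat.card K ^ 1 * ((Nat.card K ^ 2 + 1) * (Nat.card K ^ 2 + 1)) : ℕ) : ℤ) := by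
      apply mul_left_cancel₀ h3
      push_cast
      norm_num at h
      linear_combination h
    exact_mod_cast h4
  have hpp : pp p t = (Nat.card K ^ 2 + 1) * (Nat.card K ^ 2 + 1) :=
    pp_of_eq K p h1 (not_dvd_mul' p Fact.out (not_dvd_add K p 2 (by norm_num)) (not_dvd_add K p 2 (by norm_num)))
  have he : Even (Nat.card K ^ 2 + 1) := (ho.pow).add_one
  refine ⟨t, ht, ?_, ?_, ?_⟩
  · rw [h1]
    exact Dvd.dvd.mul_left (Dvd.dvd.mul_left he.two_dvd _) _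
  · rw [h1]; positivity
  · rw [D2_plus_four K p, hpp]
    have h7 : 3 ^ 6 ≤ Nat.card K ^ 6 := Nat.pow_le_pow_left hq3 6
    obtain ⟨B, hB⟩ : ∃ B, Nat.card K ^ 6 = B + 1 := ⟨Nat.card K ^ 6 - 1, by omega⟩
    rw [hB, Nat.add_sub_cancel]
    calc 4 * ((Nat.card K ^ 2 + 1) * (Nat.card K ^ 2 + 1))
        < B * ((Nat.card K ^ 2 + 1) * (Nat.card K ^ 2 + 1)) := Nat.mul_lt_mul_of_pos_right (by omega) (by positivity)
      _ = _ := by ring

include p in
theorem rk_minus_three {a b : K} (hab : ∀ z₁ z₂ : K, z₁ ^ 2 + a * z₁ * z₂ + b * z₂ ^ 2 = 0 → z₁ = 0 ∧ z₂ = 0)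
    (ho : Odd (Nat.card K)) :
    ∃ t, Ch (POmega K (quadFormMinus 3 K a b)) t ∧ 2 ∣ t ∧ t ≠ 0 ∧
      4 * pp p t < pp p (dg (CForm.minusF K 3 a b hab) 2) := by
  have hq : 2 ≤ Nat.card K := Finite.one_lt_card
  have hq3 := q_ge_three hq ho
  obtain ⟨s, t, -, ht, -, h⟩ := rk3_minus K a b hab (l := 3) le_rfl
  have h1 : t = Nat.card K ^ 1 * (Nat.card K ^ 4 + 1) := by
    have h3 : ((Nat.card K : ℤ) ^ 2 - 1) ≠ 0 := by
      have : (2 : ℤ) ≤ Nat.card K := by exact_mod_cast hq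
      nlinarith
    have h4 : ((t : ℕ) : ℤ) = ((Nat.card K ^ 1 * (Nat.card K ^ 4 + 1) : ℕ) : ℤ) := by
      apply mul_left_cancel₀ h3
      push_cast
      norm_num at h
      linear_combination h
    exact_mod_cast h4
  have hpp : pp p t = Nat.card K ^ 4 + 1 := pp_of_eq K p h1 (not_dvd_add K p 4 (by norm_num))
  have he : Even (Nat.card K ^ 4 + 1) := (ho.pow).add_one
  refine ⟨t, ht, ?_, ?_, ?_⟩
  · rw [h1]
    exact Dvd.dvd.mul_left he.two_dvd _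
  · rw [h1]; positivity
  · rw [D2_minus_three K p hab, hpp]
    have h7 : 3 ^ 6 ≤ Nat.card K ^ 6 := Nat.pow_le_pow_left hq3 6
    obtain ⟨B, hB⟩ : ∃ B, Nat.card K ^ 6 = B + 1 := ⟨Nat.card K ^ 6 - 1, by omega⟩
    rw [hB, Nat.add_sub_cancel]
    calc 4 * (Nat.card K ^ 4 + 1) < B * (Nat.card K ^ 4 + 1) := Nat.mul_lt_mul_of_pos_right (by omega) (by positivity)
      _ = _ := by ring

include p in
theorem rk_minus_four {a b : K} (hab : ∀ z₁ z₂ : K, z₁ ^ 2 + a * z₁ * z₂ + b * z₂ ^ 2 = 0 → z₁ = 0 ∧ z₂ = 0)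
    (ho : Odd (Nat.card K)) :
    ∃ t, Ch (POmega K (quadFormMinus 4 K a b)) t ∧ 2 ∣ t ∧ t ≠ 0 ∧
      4 * pp p t < pp p (dg (CForm.minusF K 4 a b hab) 2) := by
  have hq : 2 ≤ Nat.card K := Finite.one_lt_card
  have hq3 := q_ge_three hq ho
  obtain ⟨t, s, ht, -, h, -⟩ := rk3_minus K a b hab (l := 4) (by norm_num)
  have h1 : t = Nat.card K ^ 2 * ((Nat.card K ^ 2 + 1) * (Nat.card K ^ 4 + 1)) := by
    have h3 : ((Nat.card K : ℤ) ^ 2 - 1) ≠ 0 := by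
      have : (2 : ℤ) ≤ Nat.card K := by exact_mod_cast hq
      nlinarith
    have h4 : ((t : ℕ) : ℤ) = ((Nat.card K ^ 2 * ((Nat.card K ^ 2 + 1) * (Nat.card K ^ 4 + 1)) : ℕ) : ℤ) := by
      apply mul_left_cancel₀ h3
      push_cast
      norm_num at h
      linear_combination h
    exact_mod_cast h4
  have hpp : pp p t = (Nat.card K ^ 2 + 1) * (Nat.card K ^ 4 + 1) :=
    pp_of_eq K p h1 (not_dvd_mul' p Fact.out (not_dvd_add K p 2 (by norm_num)) (not_dvd_add K p 4 (by norm_num)))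
  have he : Even (Nat.card K ^ 2 + 1) := (ho.pow).add_one
  refine ⟨t, ht, ?_, ?_, ?_⟩
  · rw [h1]
    exact Dvd.dvd.mul_left (Dvd.dvd.mul_right he.two_dvd _) _
  · rw [h1]; positivity
  · rw [D2_minus_four K p hab, hpp]
    have h7 : 3 ^ 3 ≤ Nat.card K ^ 3 := Nat.pow_le_pow_left hq3 3
    have h8 : 1 ≤ Nat.card K ^ 5 := Nat.one_le_pow _ _ (by omega)
    obtain ⟨B, hB⟩ : ∃ B, Nat.card K ^ 3 = B + 1 := ⟨Nat.card K ^ 3 - 1, by omega⟩
    rw [hB, Nat.add_sub_cancel]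
    have h9 : 4 < (Nat.card K ^ 5 + 1) * B := by nlinarith
    calc 4 * ((Nat.card K ^ 2 + 1) * (Nat.card K ^ 4 + 1))
        < ((Nat.card K ^ 5 + 1) * B) * ((Nat.card K ^ 2 + 1) * (Nat.card K ^ 4 + 1)) :=
        Nat.mul_lt_mul_of_pos_right h9 (by positivity)
      _ = _ := by ring

end rk

end Cfsg.Agent.H674.Dl
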