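import Cfsg.Agent.H674.Dl.OrthSep
import Cfsg.Agent.H246.Dl.Defs

/-!
# The degrees of the simple orthogonal groups below `dg F k` (helper674, S4769)

`Dn S p q d e` : `S` has an irreducible character of degree `e`, `e ∣ d`, `d / e ∣ 4`, the part of `d / e` prime to `p`
divides `cc q`;
`odd_dn`, `plus_dn`, `minus_dn` : existence for `d = dg F k`;
`many_of_dn` : `Many`.
-/

set_option autoImplicit false

open Cfsg

namespace Cfsg.Agent.H674.Dl

open Module Cfsg.Agent.H53.HC Cfsg.Agent.H477.HC Cfsg.Agent.H749.Two Cfsg.Agent.H246.Dl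

universe u v w

/-- a degree of `S` below `d` -/
def Dn (S : Type*) [Group S] (p q d e : ℕ) : Prop := Ch S e ∧ e ∣ d ∧ pp p (d / e) ∣ cc q ∧ d / e ∣ 4

section general

variable {S : Type*} [Group S] {p q r : ℕ}

/-- divisibility passes to the constituent, `r` odd -/
theorem Dn.dvd_odd {d e : ℕ} (h : Dn S p q d e) (hr : r.Prime) (hr2 : r ≠ 2) (hd : r ∣ d) : r ∣ e := by
  obtain ⟨-, ⟨t, rfl⟩, -, h4⟩ := h
  rcases Nat.eq_zero_or_pos e with rfl | he
  · exact dvd_zero _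
  rw [Nat.mul_div_cancel_left _ he] at h4
  rcases hr.dvd_mul.1 hd with h | h
  · exact h
  · exact absurd ((Nat.prime_dvd_prime_iff_eq hr Nat.prime_two).1 (hr.dvd_of_dvd_pow
      ((h.trans h4).trans (by norm_num : 4 ∣ 2 ^ 2)))) hr2

/-- divisibility passes to the constituent, `r = 2` -/
theorem Dn.dvd_two {d e : ℕ} (h : Dn S p q d e) (hd : 8 ∣ d) : 2 ∣ e := by
  obtain ⟨-, ⟨t, rfl⟩, -, h4⟩ := h
  rcases Nat.eq_zero_or_pos e with rfl | he
  · exact dvd_zero _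
  rw [Nat.mul_div_cancel_left _ he] at h4
  rcases dvd_four h4 with rfl | rfl | rfl
  · exact (by norm_num : 2 ∣ 8).trans (by rwa [mul_one] at hd)
  · exact (by norm_num : 2 ∣ 4).trans (Nat.dvd_of_mul_dvd_mul_right (by norm_num : 0 < 2) (by simpa using hd))
  · exact Nat.dvd_of_mul_dvd_mul_right (by norm_num : 0 < 4) (by simpa using hd)

/-- **many characters** -/
theorem many_of_dn {d : ℕ → ℕ} (T X : Finset ℕ) (hr : r.Prime)
    (hT : ∀ k ∈ T, ∃ e, Dn S p q (d k) e)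
    (hsep : ∀ j ∈ T, ∀ k ∈ T, j ≠ k → ∀ e e', Dn S p q (d j) e → Dn S p q (d k) e' → e ≠ e')
    (hdiv : ∀ k ∈ T, (r ≠ 2 ∧ r ∣ d k) ∨ (r = 2 ∧ 8 ∣ d k))
    (hX : ∀ x ∈ X, Ch S x ∧ r ∣ x) (hXT : ∀ x ∈ X, ∀ k ∈ T, ∀ e, Dn S p q (d k) e → x ≠ e) :
    Many r S (T.card + X.card) := by
  classical
  choose! e he using hT
  have hinj : Set.InjOn e T := by
    intro j hj k hk h
    by_contra hne
    exact hsep j hj k hk hne _ _ (he j hj) (he k hk) h
  have hdisj : Disjoint (T.image e) X := by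
    rw [Finset.disjoint_left]
    intro x hx hx'
    obtain ⟨k, hk, rfl⟩ := Finset.mem_image.1 hx
    exact hXT _ hx' k hk _ (he k hk) rfl
  have h1 : (T.image e ∪ X).card = T.card + X.card := by
    rw [Finset.card_union_of_disjoint hdisj, Finset.card_image_of_injOn hinj]
  rw [← h1]
  refine Many.of_finset fun x hx => ?_
  rcases Finset.mem_union.1 hx with h | h
  · obtain ⟨k, hk, rfl⟩ := Finset.mem_image.1 h
    refine ⟨?_, (he k hk).1⟩
    rcases hdiv k hk with ⟨h2, h3⟩ | ⟨rfl, h3⟩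
    · exact (he k hk).dvd_odd hr h2 h3
    · exact (he k hk).dvd_two h3
  · exact ⟨(hX x h).2, (hX x h).1⟩

theorem many_of_dn' {d : ℕ → ℕ} (T : Finset ℕ) (hr : r.Prime)
    (hT : ∀ k ∈ T, ∃ e, Dn S p q (d k) e)
    (hsep : ∀ j ∈ T, ∀ k ∈ T, j ≠ k → ∀ e e', Dn S p q (d j) e → Dn S p q (d k) e' → e ≠ e')
    (hdiv : ∀ k ∈ T, (r ≠ 2 ∧ r ∣ d k) ∨ (r = 2 ∧ 8 ∣ d k)) :
    Many r S T.card :=
  many_of_dn T ∅ hr hT hsep hdiv (by simp) (by simp)

/-- a small degree is different -/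
theorem Dn.ne_of_small {d e x : ℕ} (h : Dn S p q d e) (hx : x ≠ 0) (hd : d ≠ 0) (hlt : 4 * pp p x < pp p d) : x ≠ e := by
  obtain ⟨-, h1, -, h3⟩ := h
  have he : 0 < e := Nat.pos_of_ne_zero (by rintro rfl; exact hd (Nat.eq_zero_of_zero_dvd h1))
  exact sep_of_lt (dvd_refl x) h1 he hx ((pp_le _).trans (Nat.le_of_dvd (by norm_num) h3)) hlt

end general

section omega

variable {ι : Type} [Fintype ι] [DecidableEq ι] {K : Type u} [Field K] [Finite K] (F : CForm K (ι → K))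
  (p : ℕ) [Fact p.Prime] [CharP K p]

include F in
/-- a character of the isometry group, trivial on the centre of `Ω`, gives a degree of `PΩ` -/
theorem dn_of_iso (hB : ∀ u v, F.B u v = F.Q (u + v) - F.Q u - F.Q v) {χ : F.iso → ℂ} (hχ : IsIrrCharacter F.iso χ)
    {d : ℕ} (hd : χ 1 = d)
    (hcen : ∀ z : Omega K F.Q, z ∈ Subgroup.center (Omega K F.Q) → ∀ z' : F.iso,
      (∀ v, (z' : (ι → K) ≃ₗ[K] (ι → K)) v = (omMat z).mulVec v) → χ z' = χ 1)
    (hidx : (Omega K F.Q).index ∣ 4) (hidx' : ¬ Odd (Nat.card K) → (Omega K F.Q).index ∣ 2) :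
    ∃ e, Dn (POmega K F.Q) p (Nat.card K) d e := by
  have hχ' := Characters.Core.isIrr_comp (isoQuad F hB).toMonoidHom (isoQuad F hB).surjective hχ
  obtain ⟨e, h1, h2, h3, h4⟩ := ch_down (Omega K F.Q) hχ' (d := d)
    (by rw [Function.comp_apply, map_one, hd]) (fun z hz => by
      rw [Function.comp_apply, Function.comp_apply, map_one]
      exact hcen z hz _ fun v => rfl)
  refine ⟨e, h1, h2, ?_, h3.trans hidx⟩
  by_cases ho : Odd (Nat.card K)
  · rw [cc_odd ho]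
    exact (pp_dvd _).trans (h3.trans hidx)
  · rw [cc_even ho]
    have hp2 := p_even K p ho
    subst hp2
    have h5 : pp 2 (d / e) ∣ pp 2 (2 ^ 1) := pp_dvd_pp (by rw [pow_one]; exact h3.trans (hidx' ho))
    rwa [pp_pow Nat.prime_two] at h5

include F in
theorem dn_of_cus (hB : ∀ u v, F.B u v = F.Q (u + v) - F.Q u - F.Q v) {k : ℕ} {W₀ : Submodule K (ι → K)}
    (hW₀ : W₀ ∈ F.Om k) {Z : Kˣ → Prop} {c : GL (Fin k) K → ℂ} (hc : Cus K k F.σ Z c)
    (hcen : ∀ z : Omega K F.Q, z ∈ Subgroup.center (Omega K F.Q) → ∃ a : Kˣ, Z a ∧ ∀ v, (omMat z).mulVec v = (a : K) • v)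
    (hidx : (Omega K F.Q).index ∣ 4) (hidx' : ¬ Odd (Nat.card K) → (Omega K F.Q).index ∣ 2) :
    ∃ e, Dn (POmega K F.Q) p (Nat.card K) (dg F k) e := by
  obtain ⟨χ, hχ, hχ1, hχz⟩ := exists_char F hW₀ hc
  refine dn_of_iso F p hB hχ hχ1 (fun z hz z' hz' => ?_) hidx hidx'
  obtain ⟨a, ha, h⟩ := hcen z hz
  exact hχz z' a ha fun v => (hz' v).trans (h v)

end omega

/-! ### the index -/

section idx

variable (K : Type u) [Field K] [Finite K] {p : ℕ} [Fact p.Prime] [CharP K p]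

theorem even_pow {q : ℕ} (h : ¬ Odd q) {n : ℕ} (hn : n ≠ 0) : ¬ Odd (q ^ n) := by
  rw [Nat.odd_pow_iff hn]
  exact h

omit [Finite K] in
theorem gcd_four_of_odd {n : ℕ} (h : Odd n) : Nat.gcd 4 n = 1 := by
  have : Nat.Coprime (2 ^ 2) n := Nat.Coprime.pow_left 2 (Nat.coprime_two_left.2 h)
  simpa using this

include p in
theorem idx_odd (ho : Odd (Nat.card K)) {m : ℕ} (hm : 3 ≤ m) :
    (Omega K (quadFormOdd m K)).index ∣ 4 ∧ (¬ Odd (Nat.card K) → (Omega K (quadFormOdd m K)).index ∣ 2) := by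
  obtain ⟨h1, -⟩ := odd_idx K (p := p) ho hm
  exact ⟨by rw [h1], fun h => absurd ho h⟩

theorem plus_idx_mul {m : ℕ} (hm : 4 ≤ m) :
    (Omega K (quadFormPlus m K)).index * Nat.card (Subgroup.center (Omega K (quadFormPlus m K))) =
      2 * Nat.gcd 4 (Nat.card K ^ m - 1) := by
  let _ := Fintype.ofFinite K
  refine idx_eq (quadFormPlus m K) (g := Nat.gcd 4 (Nat.card K ^ m - 1))
    (X := Nat.card K ^ (m * (m - 1)) * (Nat.card K ^ m - 1) *
      ∏ i ∈ Finset.range (m - 1), (Nat.card K ^ (2 * (i + 1)) - 1)) ?_ ?_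
  · rw [Nat.card_eq_fintype_card (α := K)]
    rw [Cfsg.Agent.S0287.result rfl m (by omega)]
    ring
  · rw [Nat.card_eq_fintype_card (α := K)]
    exact Cfsg.Agent.S0293.result rfl m hm

theorem plus_idx_four {p : ℕ} [Fact p.Prime] [CharP K p] (ho : Odd (Nat.card K)) {m : ℕ} (hm : 4 ≤ m) :
    (Omega K (quadFormPlus m K)).index = 4 := by
  have h2 := two_ne_zero_of_odd (K := K) (p := p) ho
  rw [← LieClassical.OrthForms.coe_plusForm m K]
  refine Cfsg.Agent.ClassicalGeometry.OmegaIndex.index_Omega h2 ?_ _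
    (LieClassical.OmegaReindex.nondegenerate_of_left _
      (fun x hx => LieClassical.OrthForms.nondeg_plusForm m K x hx))
  simp only [Fintype.card_sum, Fintype.card_fin]; omega

include p in
theorem idx_plus {m : ℕ} (hm : 4 ≤ m) :
    (Omega K (quadFormPlus m K)).index ∣ 4 ∧ (¬ Odd (Nat.card K) → (Omega K (quadFormPlus m K)).index ∣ 2) := by
  by_cases ho : Odd (Nat.card K)
  · exact ⟨by rw [plus_idx_four K (p := p) ho hm], fun h => absurd ho h⟩
  · have h1 := plus_idx_mul K hm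
    have hq : 2 ≤ Nat.card K := Finite.one_lt_card
    have h3 : Odd (Nat.card K ^ m - 1) := by
      have h4 := Nat.not_odd_iff_even.1 (even_pow ho (n := m) (by omega))
      have h5 : 1 ≤ Nat.card K ^ m := Nat.one_le_pow _ _ (by omega)
      exact Nat.Even.sub_odd h5 h4 odd_one
    rw [gcd_four_of_odd h3, mul_one] at h1
    have h2 : (Omega K (quadFormPlus m K)).index ∣ 2 := Dvd.intro _ h1
    exact ⟨h2.trans (by norm_num), fun _ => h2⟩

include p in
theorem idx_minus {a b : K} (hab : ∀ z₁ z₂ : K, z₁ ^ 2 + a * z₁ * z₂ + b * z₂ ^ 2 = 0 → z₁ = 0 ∧ z₂ = 0) {l : ℕ}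
    (hl : 3 ≤ l) :
    (Omega K (quadFormMinus l K a b)).index ∣ 4 ∧
      (¬ Odd (Nat.card K) → (Omega K (quadFormMinus l K a b)).index ∣ 2) := by
  by_cases ho : Odd (Nat.card K)
  · exact ⟨by rw [minus_idx_four K (p := p) ho a b hab], fun h => absurd ho h⟩
  · have h1 := minus_idx_mul K a b hab hl
    have h3 : Odd (Nat.card K ^ (l + 1) + 1) :=
      (Nat.not_odd_iff_even.1 (even_pow ho (n := l + 1) (by omega))).add_one
    rw [gcd_four_of_odd h3, mul_one] at h1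
    have h2 : (Omega K (quadFormMinus l K a b)).index ∣ 2 := Dvd.intro _ h1
    exact ⟨h2.trans (by norm_num), fun _ => h2⟩

omit [Finite K] in
theorem center_of_card {ι : Type} [Fintype ι] [DecidableEq ι] {Q : (ι → K) → K} {n : ℕ}
    (h1 : (Omega K Q).index * Nat.card (Subgroup.center (Omega K Q)) = 2 * n) (h2 : (Omega K Q).index = 4)
    (hn : n = 2) : ∀ z : Omega K Q, z ∈ Subgroup.center (Omega K Q) → z = 1 := by
  rw [h2, hn] at h1
  have h3 : Nat.card (Subgroup.center (Omega K Q)) = 1 := by omega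
  intro z hz
  rw [Subgroup.eq_bot_of_card_eq _ h3] at hz
  exact Subgroup.mem_bot.1 hz

omit [Finite K] in
theorem scal_one {ι : Type} [Fintype ι] [DecidableEq ι] {Q : (ι → K) → K} {z : Omega K Q} (hz : z = 1) :
    ∃ a : Kˣ, a ^ 1 = 1 ∧ ∀ v, (omMat z).mulVec v = (a : K) • v := by
  refine ⟨1, one_pow 1, fun v => ?_⟩
  rw [hz]
  change (1 : Matrix _ _ K).mulVec v = _
  rw [Matrix.one_mulVec, Units.val_one, one_smul]

end idx

section chars

variable (K : Type u) [Field K] [Finite K] (p : ℕ) [Fact p.Prime] [CharP K p]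

theorem odd_dn (h2 : (2 : K) ≠ 0) (ho : Odd (Nat.card K)) {m k : ℕ} (hm : 3 ≤ m) (hk : 2 ≤ k) (hkm : k ≤ m) :
    ∃ e, Dn (POmega K (quadFormOdd m K)) p (Nat.card K) (dg (CForm.oddF K m h2) k) e := by
  have hq3 : 3 ≤ Nat.card K := q_ge_three Finite.one_lt_card ho
  obtain ⟨-, hcen⟩ := odd_idx K (p := p) ho hm
  obtain ⟨c, hc⟩ := exists_cus_one (K := K) rfl k (by omega) (by
    have : Nat.card K ^ 2 ≤ Nat.card K ^ k := Nat.pow_le_pow_right (by omega) hk
    nlinarith) (by rintro ⟨h3, -⟩; omega)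
  obtain ⟨e, f, j, h⟩ := CForm.frm_odd (K := K) h2 (show k + (m - k) = m by omega)
  obtain ⟨h3, h4⟩ := idx_odd K (p := p) ho hm
  exact dn_of_cus (CForm.oddF K m h2) p (odd_hB K m h2) (frm_mem h) hc (fun z hz => scal_one K (hcen z hz)) h3 h4

theorem gcd_odd_pow {n : ℕ} (hn : Odd n) : Nat.gcd 4 (3 ^ n - 1) = 2 := by
  obtain ⟨j, rfl⟩ := hn
  have h5 : (3 ^ (2 * j + 1)) % 4 = 3 := by
    rw [pow_succ, pow_mul, Nat.mul_mod, Nat.pow_mod]
    norm_num
  have h7 : 1 ≤ 3 ^ (2 * j + 1) := Nat.one_le_pow _ _ (by norm_num)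
  generalize 3 ^ (2 * j + 1) = x at *
  have h6 : (x - 1) % 4 = 2 := by omega
  rw [Nat.gcd_rec, h6]
  decide

theorem gcd_even_pow {n : ℕ} (hn : Even n) : Nat.gcd 4 (3 ^ n + 1) = 2 := by
  obtain ⟨j, rfl⟩ := hn
  have h5 : (3 ^ (j + j)) % 4 = 1 := by
    rw [← two_mul, pow_mul, Nat.pow_mod]
    norm_num
  have h6 : (3 ^ (j + j) + 1) % 4 = 2 := by omega
  rw [Nat.gcd_rec, h6]
  decide

theorem plus_dn {m k : ℕ} (hm : 4 ≤ m) (hk : 2 ≤ k) (hkm : k ≤ m)
    (hq : 3 ≤ k ∨ 4 ≤ Nat.card K ∨ (Nat.card K = 3 ∧ Odd m)) :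
    ∃ e, Dn (POmega K (quadFormPlus m K)) p (Nat.card K) (dg (CForm.plusF K m) k) e := by
  obtain ⟨e, f, j, h⟩ := CForm.frm_plus (K := K) (show k + (m - k) = m by omega)
  obtain ⟨h3, h4⟩ := idx_plus K (p := p) hm
  by_cases hA : 3 ≤ k ∨ 4 ≤ Nat.card K
  · obtain ⟨c, hc⟩ := exists_cus_sq K rfl k (by omega) (fun h => by omega) (fun h => by omega) (fun _ => hk)
    exact dn_of_cus (CForm.plusF K m) p (plus_hB K m) (frm_mem h) hc
      (fun z hz => scal_of (cen_plus K (by omega) z hz)) h3 h4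
  · push Not at hA
    have hB : Nat.card K = 3 ∧ Odd m := by
      rcases hq with h | h | h
      · omega
      · omega
      · exact h
    have ho : Odd (Nat.card K) := by rw [hB.1]; decide
    have h5 := plus_idx_mul K hm
    have hcen := center_of_card K h5 (plus_idx_four K (p := p) ho hm) (by rw [hB.1]; exact gcd_odd_pow hB.2)
    have hk2 : k = 2 := by omega
    subst hk2
    obtain ⟨c, hc⟩ := exists_cus_one (K := K) hB.1 2 (by norm_num) (by norm_num) (by rintro ⟨h, -⟩; omega)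
    exact dn_of_cus (CForm.plusF K m) p (plus_hB K m) (frm_mem h) hc (fun z hz => scal_one K (hcen z hz)) h3 h4

theorem minus_dn {a b : K} (hab : ∀ z₁ z₂ : K, z₁ ^ 2 + a * z₁ * z₂ + b * z₂ ^ 2 = 0 → z₁ = 0 ∧ z₂ = 0)
    {l k : ℕ} (hl : 3 ≤ l) (hk : 2 ≤ k) (hkl : k ≤ l)
    (hq : 3 ≤ k ∨ 4 ≤ Nat.card K ∨ (Nat.card K = 3 ∧ Odd l)) :
    ∃ e, Dn (POmega K (quadFormMinus l K a b)) p (Nat.card K) (dg (CForm.minusF K l a b hab) k) e := by
  obtain ⟨e, f, j, h⟩ := CForm.frm_minus (K := K) hab (show k + (l - k) = l by omega)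
  obtain ⟨h3, h4⟩ := idx_minus K (p := p) hab hl
  by_cases hA : 3 ≤ k ∨ 4 ≤ Nat.card K
  · obtain ⟨c, hc⟩ := exists_cus_sq K rfl k (by omega) (fun h => by omega) (fun h => by omega) (fun _ => hk)
    exact dn_of_cus (CForm.minusF K l a b hab) p (minus_hB K l a b hab) (frm_mem h) hc
      (fun z hz => scal_of (cen_minus K (by omega) a b hab z hz)) h3 h4
  · push Not at hA
    have hB : Nat.card K = 3 ∧ Odd l := by
      rcases hq with h | h | h
      · omega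
      · omega
      · exact h
    have ho : Odd (Nat.card K) := by rw [hB.1]; decide
    have h5 := minus_idx_mul K a b hab hl
    have hcen := center_of_card K h5 (minus_idx_four K (p := p) ho a b hab l) (by
      rw [hB.1]; exact gcd_even_pow hB.2.add_one)
    have hk2 : k = 2 := by omega
    subst hk2
    obtain ⟨c, hc⟩ := exists_cus_one (K := K) hB.1 2 (by norm_num) (by norm_num) (by rintro ⟨h, -⟩; omega)
    exact dn_of_cus (CForm.minusF K l a b hab) p (minus_hB K l a b hab) (frm_mem h) hc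
      (fun z hz => scal_one K (hcen z hz)) h3 h4

end chars

/-! ### divisibility of the degrees -/

section div

variable (K : Type u) [Field K] [Finite K] (p : ℕ) [Fact p.Prime] [CharP K p]

omit [Finite K] in
theorem dvd_dg_of_ord {V : Type v} [AddCommGroup V] [Module K V] (F : CForm K V) {r e k : ℕ} (he : 0 < e)
    (h : r ∣ Nat.card K ^ e - 1) (hk : e < k) : r ∣ dg F k := by
  unfold dg
  exact Dvd.dvd.mul_left (h.trans (Finset.dvd_prod_of_mem (fun i => Nat.card K ^ i - 1)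
    (Finset.mem_Ico.2 ⟨he, hk⟩))) _

omit [Finite K] in
theorem eight_dvd_three {V : Type v} [AddCommGroup V] [Module K V] (F : CForm K V) {k : ℕ} (ho : Odd (Nat.card K))
    (hk : 3 ≤ k) : 8 ∣ dg F k := dvd_dg_of_ord K F (e := 2) (by norm_num) (Nat.eight_dvd_sq_sub_one_of_odd ho) (by omega)

theorem sq_sub_dvd (q n : ℕ) : q ^ 2 - 1 ∣ q ^ (2 * n) - 1 := pow_sub_one_dvd q ⟨n, rfl⟩

theorem eight_dvd_even {q n : ℕ} (ho : Odd q) (hn : Even n) : 8 ∣ q ^ n - 1 := by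
  obtain ⟨j, rfl⟩ := hn
  rw [← two_mul]
  exact (Nat.eight_dvd_sq_sub_one_of_odd ho).trans (sq_sub_dvd q j)

theorem add_dvd_odd (q : ℕ) {n : ℕ} (hn : Odd n) : q + 1 ∣ q ^ n + 1 := by
  have := hn.nat_add_dvd_pow_add_pow q 1
  rwa [one_pow] at this

theorem eight_dvd_mul {q a b : ℕ} (ho : Odd q) (hq : 2 ≤ q) (hab : Even (a + b)) :
    8 ∣ (q ^ a - 1) * (q ^ b + 1) := by
  rcases Nat.even_or_odd a with h | h
  · exact Dvd.dvd.mul_right (eight_dvd_even ho h) _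
  · have hb' : Odd b := by
      rcases Nat.even_or_odd b with h' | h'
      · exact absurd hab (Nat.not_even_iff_odd.2 (h.add_even h'))
      · exact h'
    have h1 : q ^ 2 - 1 = (q - 1) * (q + 1) := by
      obtain ⟨y, rfl⟩ : ∃ y, q = y + 1 := ⟨q - 1, by omega⟩
      have : (y + 1) ^ 2 = y * (y + 2) + 1 := by ring
      rw [this, Nat.add_sub_cancel, Nat.add_sub_cancel]
    refine (Nat.eight_dvd_sq_sub_one_of_odd ho).trans ?_
    rw [h1]
    exact Nat.mul_dvd_mul (by simpa using pow_sub_one_dvd q (one_dvd a)) (add_dvd_odd q hb')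

theorem AP_two {q n m : ℕ} (h : n + 2 = m) :
    AP q (Finset.Ico n m) = (q ^ (2 * (n + 1)) - 1) * (q ^ (2 * (n + 2)) - 1) := by
  subst h
  rw [AP_succ (by omega), AP_succ (by omega), Finset.Ico_self]
  unfold AP
  rw [Finset.prod_empty, mul_one]

include p in
/-- `8 ∣ dg F 2`, odd dimension -/
theorem eight_odd (h2 : (2 : K) ≠ 0) (ho : Odd (Nat.card K)) {m : ℕ} (hm : 3 ≤ m) :
    8 ∣ dg (CForm.oddF K m h2) 2 := by
  have hq : 2 ≤ Nat.card K := Finite.one_lt_card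
  have h1 := D_odd K p h2 ho (show 0 < 2 by norm_num) (show 2 + (m - 2) = m by omega)
  rw [AP_two (by omega)] at h1
  obtain ⟨y, hy⟩ := sq_sub_dvd (Nat.card K) (m - 2 + 2)
  rw [hy] at h1
  have h3 : 0 < Nat.card K ^ 2 - 1 := by
    have := Nat.one_lt_pow two_ne_zero hq
    omega
  have h4 : pp p (dg (CForm.oddF K m h2) 2) = (Nat.card K ^ (2 * (m - 2 + 1)) - 1) * y := by
    apply Nat.eq_of_mul_eq_mul_right h3
    rw [h1]
    ring
  refine Dvd.dvd.trans ?_ (pp_dvd (p := p) _)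
  rw [h4]
  exact Dvd.dvd.mul_right (eight_dvd_even ho ⟨m - 2 + 1, by ring⟩) _

include p in
theorem eight_plus (ho : Odd (Nat.card K)) {m : ℕ} (hm : 4 ≤ m) :
    8 ∣ dg (CForm.plusF K m) 2 := by
  have hq : 2 ≤ Nat.card K := Finite.one_lt_card
  have h1 := D_plus K p (show 0 < 2 by norm_num) (show 0 < m - 2 by omega) (show 2 + (m - 2) = m by omega)
  rw [AP_two (by omega)] at h1
  obtain ⟨y, hy⟩ := sq_sub_dvd (Nat.card K) (m - 2 - 1 + 2)
  have e1 : Nat.card K ^ (2 * (m - 2 - 1 + 1)) - 1 = (Nat.card K ^ (m - 2) + 1) * (Nat.card K ^ (m - 2) - 1) := by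
    rw [show m - 2 - 1 + 1 = m - 2 by omega]
    exact sq_sub _ _
  rw [hy, e1] at h1
  have h3 : 0 < Nat.card K ^ 2 - 1 := by
    have := Nat.one_lt_pow two_ne_zero hq
    omega
  have h3' : 0 < Nat.card K ^ (m - 2) - 1 := by
    have := Nat.one_lt_pow (show m - 2 ≠ 0 by omega) hq
    omega
  have h4 : pp p (dg (CForm.plusF K m) 2) = (Nat.card K ^ m - 1) * (Nat.card K ^ (m - 2) + 1) * y := by
    apply Nat.eq_of_mul_eq_mul_right h3
    apply Nat.eq_of_mul_eq_mul_right h3'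
    rw [h1]
    ring
  refine Dvd.dvd.trans ?_ (pp_dvd (p := p) _)
  rw [h4]
  refine Dvd.dvd.mul_right (eight_dvd_mul ho hq ⟨m - 1, by omega⟩) _

include p in
theorem eight_minus {a b : K} (hab : ∀ z₁ z₂ : K, z₁ ^ 2 + a * z₁ * z₂ + b * z₂ ^ 2 = 0 → z₁ = 0 ∧ z₂ = 0)
    (ho : Odd (Nat.card K)) {l : ℕ} (hl : 3 ≤ l) : 8 ∣ dg (CForm.minusF K l a b hab) 2 := by
  have hq : 2 ≤ Nat.card K := Finite.one_lt_card
  have h1 := D_minus K p hab (show 0 < 2 by norm_num) (show 2 + (l - 2) = l by omega)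
  rw [AP_two (by omega)] at h1
  obtain ⟨y, hy⟩ := sq_sub_dvd (Nat.card K) (l - 2 + 2)
  have e1 : Nat.card K ^ (2 * (l - 2 + 1)) - 1 = (Nat.card K ^ (l - 2 + 1) + 1) * (Nat.card K ^ (l - 2 + 1) - 1) :=
    sq_sub _ _
  rw [hy, e1] at h1
  have h3 : 0 < Nat.card K ^ 2 - 1 := by
    have := Nat.one_lt_pow two_ne_zero hq
    omega
  have h3' : 0 < Nat.card K ^ (l - 2 + 1) + 1 := Nat.succ_pos _
  have h4 : pp p (dg (CForm.minusF K l a b hab) 2) = (Nat.card K ^ (l - 2 + 1) - 1) * (Nat.card K ^ (l + 1) + 1) * y := by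
    apply Nat.eq_of_mul_eq_mul_right h3
    apply Nat.eq_of_mul_eq_mul_right h3'
    rw [h1]
    ring
  refine Dvd.dvd.trans ?_ (pp_dvd (p := p) _)
  rw [h4]
  refine Dvd.dvd.mul_right (eight_dvd_mul ho hq ⟨l, by omega⟩) _

end div

end Cfsg.Agent.H674.Dl
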