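import Cfsg.Agent.H674.Dl.Exact
import Cfsg.Agent.H477.HC.NPO

/-!
# The degrees of the orthogonal groups: exact formulas and growth (helper674, S4769)
-/

set_option autoImplicit false

open Cfsg

namespace Cfsg.Agent.H674.Dl

open Module Cfsg.Agent.H53.HC Cfsg.Agent.H477.HC Cfsg.Agent.H749.Two

universe u v w

/-! ### arithmetic -/

section arith

theorem grow {q k D D' R c : ℕ} (hq : 2 ≤ q) (hk : 2 ≤ k) (h : D * (q ^ k - 1) = R * D' * (q ^ (k - 1) - 1))
    (hD' : 0 < D') (hR : c * (q + 1) < R) : c * D' < D := by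
  by_contra hcon
  rw [not_lt] at hcon
  obtain ⟨x, hx⟩ : ∃ x, q ^ (k - 1) = x + 1 := ⟨q ^ (k - 1) - 1, by
    have := Nat.one_le_pow (k - 1) q (by omega); omega⟩
  have hqx : q ≤ x + 1 := by
    rw [← hx]
    calc q = q ^ 1 := (pow_one q).symm
      _ ≤ _ := Nat.pow_le_pow_right (by omega) (by omega)
  have hx0 : 0 < x := by omega
  have h1 : q ^ k = q * (x + 1) := by rw [← hx, ← pow_succ']; congr 1; omega
  have h2 : q ^ k - 1 ≤ (q + 1) * x := by
    rw [h1]
    have : q * (x + 1) ≤ (q + 1) * x + 1 := by nlinarith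
    omega
  rw [hx, Nat.add_sub_cancel] at h
  have h3 : D * (q ^ k - 1) ≤ c * D' * ((q + 1) * x) := Nat.mul_le_mul hcon h2
  have h4 : c * D' * ((q + 1) * x) < R * D' * x := by
    have : c * D' * ((q + 1) * x) = (c * (q + 1)) * (D' * x) := by ring
    rw [this, mul_assoc R]
    exact Nat.mul_lt_mul_of_pos_right hR (Nat.mul_pos hD' hx0)
  omega

/-- strict form for `k ≥ 3` -/
theorem grow' {q k D D' R c : ℕ} (hq : 2 ≤ q) (hk : 3 ≤ k) (h : D * (q ^ k - 1) = R * D' * (q ^ (k - 1) - 1))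
    (hD' : 0 < D') (hR : c * (q + 1) ≤ R) (hc : 0 < c) : c * D' < D := by
  by_contra hcon
  rw [not_lt] at hcon
  obtain ⟨x, hx⟩ : ∃ x, q ^ (k - 1) = x + 1 := ⟨q ^ (k - 1) - 1, by
    have := Nat.one_le_pow (k - 1) q (by omega); omega⟩
  have hqx : q * q ≤ x + 1 := by
    rw [← hx]
    calc q * q = q ^ 2 := (sq q).symm
      _ ≤ _ := Nat.pow_le_pow_right (by omega) (by omega)
  have hx0 : 0 < x := by nlinarith
  have h1 : q ^ k = q * (x + 1) := by rw [← hx, ← pow_succ']; congr 1; omega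
  have h2 : q ^ k - 1 < (q + 1) * x := by
    rw [h1]
    have h3 : q * (x + 1) < (q + 1) * x + 1 := by nlinarith
    have h4 : 0 < (q + 1) * x := Nat.mul_pos (by omega) hx0
    omega
  rw [hx, Nat.add_sub_cancel] at h
  have h3 : D * (q ^ k - 1) < c * D' * ((q + 1) * x) := by
    rcases Nat.eq_zero_or_pos D with rfl | hD
    · rw [zero_mul]; positivity
    · exact Nat.mul_lt_mul_of_le_of_lt hcon h2 (by positivity)
  have h4 : c * D' * ((q + 1) * x) ≤ R * D' * x := by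
    have : c * D' * ((q + 1) * x) = (c * (q + 1)) * (D' * x) := by ring
    rw [this, mul_assoc R]
    exact Nat.mul_le_mul_right _ hR
  omega

theorem chain {D : ℕ → ℕ} {c a b : ℕ} (hc : 1 ≤ c) (h : ∀ k, a < k → k ≤ b → c * D (k - 1) < D k) :
    ∀ k j, a ≤ j → j < k → k ≤ b → c * D j < D k := by
  intro k
  induction k with
  | zero => intro j _ h1 _; omega
  | succ k ih =>
    intro j h1 h2 h3
    have h4 := h (k + 1) (by omega) h3
    rw [Nat.add_sub_cancel] at h4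
    rcases Nat.lt_or_ge j k with h5 | h5
    · have h6 := ih j h1 h5 (by omega)
      have h7 : D k ≤ c * D k := Nat.le_mul_of_pos_left _ hc
      omega
    · have h6 : j = k := by omega
      rw [h6]; exact h4

variable {p : ℕ}

/-- different sizes give different degrees -/
theorem sep_of_lt {e e' d d' c : ℕ} (he : e ∣ d) (he' : e' ∣ d') (he0 : 0 < e') (hd : d ≠ 0) (ht' : pp p (d' / e') ≤ c)
    (h : c * pp p d < pp p d') : e ≠ e' := by
  rintro rfl
  have h1 : pp p d' = pp p e * pp p (d' / e) := by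
    rw [← pp_mul, Nat.mul_div_cancel' he']
  have h2 : pp p e ≤ pp p d := by
    refine Nat.le_of_dvd (pp_pos hd) (pp_dvd_pp he)
  have h3 : pp p d' ≤ c * pp p d := by
    rw [h1, mul_comm]
    exact Nat.mul_le_mul ht' h2
  omega

end arith

/-! ### exact formulas -/

section formulas

variable (K : Type u) [Field K] [Finite K] (p : ℕ) [Fact p.Prime] [CharP K p]

/-- the product of the `q^(2(i+1)) - 1` -/
def AP (q : ℕ) (s : Finset ℕ) : ℕ := ∏ i ∈ s, (q ^ (2 * (i + 1)) - 1)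

theorem AP_pos {q : ℕ} (hq : 2 ≤ q) (s : Finset ℕ) : 0 < AP q s := by
  apply Finset.prod_pos
  intro i _
  have : 1 < q ^ (2 * (i + 1)) := Nat.one_lt_pow (by omega) (by omega)
  omega

theorem AP_range {q n m : ℕ} (h : n ≤ m) : AP q (Finset.range n) * AP q (Finset.Ico n m) = AP q (Finset.range m) :=
  Finset.prod_range_mul_prod_Ico _ h

theorem AP_succ {q n m : ℕ} (h : n < m) : AP q (Finset.Ico n m) = (q ^ (2 * (n + 1)) - 1) * AP q (Finset.Ico (n + 1) m) :=
  Finset.prod_eq_prod_Ico_succ_bot h _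

theorem pp_card_odd (h2 : (2 : K) ≠ 0) (ho : Odd (Nat.card K)) (m : ℕ) :
    pp p (Nat.card (CForm.oddF K m h2).iso) = pp p 2 * AP (Nat.card K) (Finset.range m) := by
  rw [card_oddF K h2 ho, mul_assoc, pp_mul, pp_q K p, pp_A K p]
  rfl

theorem pp_card_plus {m : ℕ} (hm : 1 ≤ m) :
    pp p (Nat.card (CForm.plusF K m).iso) = pp p 2 * ((Nat.card K ^ m - 1) * AP (Nat.card K) (Finset.range (m - 1))) := by
  rw [card_plusF K hm, mul_assoc, mul_assoc, pp_mul, pp_q K p, pp_mul, pp_A K p, pp_sub K p (by omega)]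
  rfl

theorem pp_card_minus {a b : K} (hab : ∀ z₁ z₂ : K, z₁ ^ 2 + a * z₁ * z₂ + b * z₂ ^ 2 = 0 → z₁ = 0 ∧ z₂ = 0) (m : ℕ) :
    pp p (Nat.card (CForm.minusF K m a b hab).iso) =
      pp p 2 * ((Nat.card K ^ (m + 1) + 1) * AP (Nat.card K) (Finset.range m)) := by
  rw [card_minusF K m a b hab, mul_assoc, mul_assoc, pp_mul, pp_q K p, pp_mul, pp_A K p, pp_add K p (by omega)]
  rfl

omit [Fact p.Prime] in
/-- `2` has a nonzero part prime to `p` -/
theorem pp_two_pos : 0 < pp p 2 := pp_pos (by norm_num)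

theorem D_odd (h2 : (2 : K) ≠ 0) (ho : Odd (Nat.card K)) {k n m : ℕ} (hk : 0 < k) (hm : k + n = m) :
    pp p (dg (CForm.oddF K m h2) k) * (Nat.card K ^ k - 1) = AP (Nat.card K) (Finset.Ico n m) := by
  have hq : 2 ≤ Nat.card K := Finite.one_lt_card
  obtain ⟨e, f, j, h⟩ := CForm.frm_odd (K := K) h2 hm
  have h1 := pp_dg (p := p) hk h rfl
  rw [pp_card_odd K p h2 ho, pp_card_odd K p h2 ho, ← AP_range (show n ≤ m by omega)] at h1
  have h3 : 0 < pp p 2 * AP (Nat.card K) (Finset.range n) := Nat.mul_pos (pp_two_pos p) (AP_pos hq _)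
  apply Nat.eq_of_mul_eq_mul_left h3
  rw [mul_assoc (pp p 2) _ (AP (Nat.card K) (Finset.Ico n m)), h1]
  ring

theorem D_plus {k n m : ℕ} (hk : 0 < k) (hn : 0 < n) (hm : k + n = m) :
    pp p (dg (CForm.plusF K m) k) * (Nat.card K ^ k - 1) * (Nat.card K ^ n - 1) =
      (Nat.card K ^ m - 1) * AP (Nat.card K) (Finset.Ico (n - 1) (m - 1)) := by
  have hq : 2 ≤ Nat.card K := Finite.one_lt_card
  obtain ⟨e, f, j, h⟩ := CForm.frm_plus (K := K) hm
  have h1 := pp_dg (p := p) hk h rfl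
  rw [pp_card_plus K p (show 1 ≤ m by omega), pp_card_plus K p (show 1 ≤ n by omega),
    ← AP_range (show n - 1 ≤ m - 1 by omega)] at h1
  have h3 : 0 < pp p 2 * AP (Nat.card K) (Finset.range (n - 1)) := Nat.mul_pos (pp_two_pos p) (AP_pos hq _)
  apply Nat.eq_of_mul_eq_mul_left h3
  have e1 : pp p 2 * AP (Nat.card K) (Finset.range (n - 1)) *
      ((Nat.card K ^ m - 1) * AP (Nat.card K) (Finset.Ico (n - 1) (m - 1))) =
      pp p 2 * ((Nat.card K ^ m - 1) *
        (AP (Nat.card K) (Finset.range (n - 1)) * AP (Nat.card K) (Finset.Ico (n - 1) (m - 1)))) := by ring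
  rw [e1, h1]
  ring

omit [Finite K] in
theorem card_plusF_zero : Nat.card (CForm.plusF K 0).iso = 1 := by
  rw [Nat.card_eq_one_iff_unique]
  refine ⟨⟨fun a b => ?_⟩, ⟨1⟩⟩
  apply Subtype.ext
  apply LinearEquiv.ext
  intro v
  exact Subsingleton.elim _ _

theorem D_plus_top {m : ℕ} (hm : 0 < m) :
    pp p (dg (CForm.plusF K m) m) = pp p 2 * AP (Nat.card K) (Finset.range (m - 1)) := by
  have hq : 2 ≤ Nat.card K := Finite.one_lt_card
  obtain ⟨e, f, j, h⟩ := CForm.frm_plus (K := K) (Nat.add_zero m)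
  have h1 := pp_dg (p := p) hm h rfl
  rw [pp_card_plus K p (show 1 ≤ m by omega), card_plusF_zero, pp_one Fact.out, mul_one] at h1
  have h3 : 0 < Nat.card K ^ m - 1 := by
    have := Nat.one_lt_pow hm.ne' hq
    omega
  apply Nat.eq_of_mul_eq_mul_right h3
  rw [← h1]
  ring

theorem D_minus {a b : K} (hab : ∀ z₁ z₂ : K, z₁ ^ 2 + a * z₁ * z₂ + b * z₂ ^ 2 = 0 → z₁ = 0 ∧ z₂ = 0) {k n m : ℕ}
    (hk : 0 < k) (hm : k + n = m) :
    pp p (dg (CForm.minusF K m a b hab) k) * (Nat.card K ^ k - 1) * (Nat.card K ^ (n + 1) + 1) =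
      (Nat.card K ^ (m + 1) + 1) * AP (Nat.card K) (Finset.Ico n m) := by
  have hq : 2 ≤ Nat.card K := Finite.one_lt_card
  obtain ⟨e, f, j, h⟩ := CForm.frm_minus (K := K) hab hm
  have h1 := pp_dg (p := p) hk h rfl
  rw [pp_card_minus K p hab, pp_card_minus K p hab, ← AP_range (show n ≤ m by omega)] at h1
  have h3 : 0 < pp p 2 * AP (Nat.card K) (Finset.range n) := Nat.mul_pos (pp_two_pos p) (AP_pos hq _)
  apply Nat.eq_of_mul_eq_mul_left h3
  have e1 : pp p 2 * AP (Nat.card K) (Finset.range n) *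
      ((Nat.card K ^ (m + 1) + 1) * AP (Nat.card K) (Finset.Ico n m)) =
      pp p 2 * ((Nat.card K ^ (m + 1) + 1) *
        (AP (Nat.card K) (Finset.range n) * AP (Nat.card K) (Finset.Ico n m))) := by ring
  rw [e1, h1]
  ring

/-- nonzero degrees -/
theorem dg_odd_ne (h2 : (2 : K) ≠ 0) (ho : Odd (Nat.card K)) {k m : ℕ} (hk : 0 < k) (hm : k ≤ m) :
    dg (CForm.oddF K m h2) k ≠ 0 := by
  intro h
  obtain ⟨p, hp⟩ := CharP.exists K
  have : Fact p.Prime := ⟨(CharP.char_is_prime_or_zero K p).resolve_right (CharP.char_ne_zero_of_finite K p)⟩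
  have h1 := D_odd K p h2 ho hk (show k + (m - k) = m by omega)
  rw [h] at h1
  have h3 : pp p 0 = 0 := by simp [pp]
  rw [h3, zero_mul] at h1
  exact (AP_pos (q := Nat.card K) Finite.one_lt_card _).ne h1

theorem dg_plus_ne {k m : ℕ} (hk : 0 < k) (hm : k ≤ m) : dg (CForm.plusF K m) k ≠ 0 := by
  intro h
  obtain ⟨p, hp⟩ := CharP.exists K
  have : Fact p.Prime := ⟨(CharP.char_is_prime_or_zero K p).resolve_right (CharP.char_ne_zero_of_finite K p)⟩
  have h3 : pp p 0 = 0 := by simp [pp]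
  have hq : 2 ≤ Nat.card K := Finite.one_lt_card
  rcases Nat.lt_or_ge k m with h4 | h4
  · have h1 := D_plus K p hk (show 0 < m - k by omega) (show k + (m - k) = m by omega)
    rw [h, h3, zero_mul, zero_mul] at h1
    have h5 : 0 < Nat.card K ^ m - 1 := by
      have := Nat.one_lt_pow (show m ≠ 0 by omega) hq
      omega
    exact (Nat.mul_pos h5 (AP_pos (q := Nat.card K) hq _)).ne h1
  · have h5 : k = m := by omega
    subst h5
    have h1 := D_plus_top K p hk
    rw [h, h3] at h1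
    exact (Nat.mul_pos (pp_two_pos p) (AP_pos (q := Nat.card K) hq _)).ne h1

theorem dg_minus_ne {a b : K} (hab : ∀ z₁ z₂ : K, z₁ ^ 2 + a * z₁ * z₂ + b * z₂ ^ 2 = 0 → z₁ = 0 ∧ z₂ = 0)
    {k m : ℕ} (hk : 0 < k) (hm : k ≤ m) : dg (CForm.minusF K m a b hab) k ≠ 0 := by
  intro h
  obtain ⟨p, hp⟩ := CharP.exists K
  have : Fact p.Prime := ⟨(CharP.char_is_prime_or_zero K p).resolve_right (CharP.char_ne_zero_of_finite K p)⟩
  have h1 := D_minus K p hab hk (show k + (m - k) = m by omega)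
  rw [h] at h1
  have h3 : pp p 0 = 0 := by simp [pp]
  rw [h3, zero_mul, zero_mul] at h1
  exact (Nat.mul_pos (Nat.succ_pos _) (AP_pos (q := Nat.card K) Finite.one_lt_card _)).ne h1

end formulas

/-! ### growth -/

section growth

variable (K : Type u) [Field K] [Finite K] (p : ℕ) [Fact p.Prime] [CharP K p]

theorem rec_odd (h2 : (2 : K) ≠ 0) (ho : Odd (Nat.card K)) {k n m : ℕ} (hk : 2 ≤ k) (hm : k + n = m) :
    pp p (dg (CForm.oddF K m h2) k) * (Nat.card K ^ k - 1) =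
      (Nat.card K ^ (2 * (n + 1)) - 1) * pp p (dg (CForm.oddF K m h2) (k - 1)) * (Nat.card K ^ (k - 1) - 1) := by
  rw [D_odd K p h2 ho (show 0 < k by omega) hm, AP_succ (by omega), mul_assoc,
    D_odd K p h2 ho (show 0 < k - 1 by omega) (show k - 1 + (n + 1) = m by omega)]

theorem rec_plus {k n m : ℕ} (hk : 2 ≤ k) (hn : 0 < n) (hm : k + n = m) :
    pp p (dg (CForm.plusF K m) k) * (Nat.card K ^ k - 1) =
      ((Nat.card K ^ n + 1) * (Nat.card K ^ (n + 1) - 1)) * pp p (dg (CForm.plusF K m) (k - 1)) *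
        (Nat.card K ^ (k - 1) - 1) := by
  have hq : 2 ≤ Nat.card K := Finite.one_lt_card
  have h1 := D_plus K p (show 0 < k by omega) hn hm
  have h2 := D_plus K p (show 0 < k - 1 by omega) (show 0 < n + 1 by omega) (show k - 1 + (n + 1) = m by omega)
  have e1 : n - 1 + 1 = n := by omega
  rw [AP_succ (by omega), e1] at h1
  rw [Nat.add_sub_cancel] at h2
  have e2 : Nat.card K ^ (2 * n) - 1 = (Nat.card K ^ n + 1) * (Nat.card K ^ n - 1) := sq_sub _ n
  rw [e2] at h1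
  have h3 : 0 < Nat.card K ^ n - 1 := by
    have := Nat.one_lt_pow hn.ne' hq
    omega
  apply Nat.eq_of_mul_eq_mul_right h3
  rw [h1]
  calc (Nat.card K ^ m - 1) * ((Nat.card K ^ n + 1) * (Nat.card K ^ n - 1) * AP (Nat.card K) (Finset.Ico n (m - 1)))
      = (Nat.card K ^ n + 1) * (Nat.card K ^ n - 1) *
        ((Nat.card K ^ m - 1) * AP (Nat.card K) (Finset.Ico n (m - 1))) := by ring
    _ = _ := by rw [← h2]; ring

/-- the last step in plus type -/
theorem rec_plus_top {m : ℕ} (hm : 2 ≤ m) :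
    pp p (dg (CForm.plusF K m) m) * (Nat.card K ^ m - 1) =
      (pp p 2 * (Nat.card K - 1)) * pp p (dg (CForm.plusF K m) (m - 1)) * (Nat.card K ^ (m - 1) - 1) := by
  have h1 := D_plus_top K p (show 0 < m by omega)
  have h2 := D_plus K p (show 0 < m - 1 by omega) (show 0 < 1 by omega) (show m - 1 + 1 = m by omega)
  rw [Nat.sub_self, ← Finset.range_eq_Ico, pow_one] at h2
  rw [h1]
  calc pp p 2 * AP (Nat.card K) (Finset.range (m - 1)) * (Nat.card K ^ m - 1)
      = pp p 2 * ((Nat.card K ^ m - 1) * AP (Nat.card K) (Finset.range (m - 1))) := by ring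
    _ = _ := by rw [← h2]; ring

theorem rec_minus {a b : K} (hab : ∀ z₁ z₂ : K, z₁ ^ 2 + a * z₁ * z₂ + b * z₂ ^ 2 = 0 → z₁ = 0 ∧ z₂ = 0) {k n m : ℕ}
    (hk : 2 ≤ k) (hm : k + n = m) :
    pp p (dg (CForm.minusF K m a b hab) k) * (Nat.card K ^ k - 1) =
      ((Nat.card K ^ (n + 1) - 1) * (Nat.card K ^ (n + 2) + 1)) * pp p (dg (CForm.minusF K m a b hab) (k - 1)) *
        (Nat.card K ^ (k - 1) - 1) := by
  have h1 := D_minus K p hab (show 0 < k by omega) hm
  have h2 := D_minus K p hab (show 0 < k - 1 by omega) (show k - 1 + (n + 1) = m by omega)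
  rw [AP_succ (by omega)] at h1
  have e2 : Nat.card K ^ (2 * (n + 1)) - 1 = (Nat.card K ^ (n + 1) + 1) * (Nat.card K ^ (n + 1) - 1) := sq_sub _ (n + 1)
  rw [e2] at h1
  have h3 : 0 < Nat.card K ^ (n + 1) + 1 := Nat.succ_pos _
  apply Nat.eq_of_mul_eq_mul_right h3
  rw [h1]
  calc (Nat.card K ^ (m + 1) + 1) *
        ((Nat.card K ^ (n + 1) + 1) * (Nat.card K ^ (n + 1) - 1) * AP (Nat.card K) (Finset.Ico (n + 1) m))
      = (Nat.card K ^ (n + 1) + 1) * (Nat.card K ^ (n + 1) - 1) *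
        ((Nat.card K ^ (m + 1) + 1) * AP (Nat.card K) (Finset.Ico (n + 1) m)) := by ring
    _ = _ := by rw [← h2]; ring

end growth

end Cfsg.Agent.H674.Dl
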