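import Cfsg.Agent.H674.Dl.OrthRow
import Cfsg.Agent.S0157

/-!
# The rows `PΩ⁻` of S4769, `p` not the characteristic (helper674)

For `PΩ⁻_8(q)` and `PΩ⁻_10(3)` one more character: Harish-Chandra induction of `c ⊗ ψ₀`, `c` cuspidal of `GL_(l-1)(q)`,
`ψ₀` the character of degree `q²` of `O⁻_4(q)` (2-transitive on the `q² + 1` singular points).
-/

set_option autoImplicit false

open Cfsg

namespace Cfsg.Agent.H674.Dl

open Module Cfsg.Agent.H53.HC Cfsg.Agent.H477.HC Cfsg.Agent.H749.Two Cfsg.Agent.H246.Dl MulAction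

universe u v w

section witt

variable {K : Type u} [Field K] {V : Type v} [AddCommGroup V] [Module K V] {X : Type w} [AddCommGroup X] [Module K X]
  {F : CForm K V} {F' : CForm K X} {j : X →ₗ[K] V}

theorem exists_sub [FiniteDimensional K V] {l : ℕ} {M : Submodule K V} (hl : l ≤ finrank K M) :
    ∃ M₁ : Submodule K V, M₁ ≤ M ∧ finrank K M₁ = l := by
  classical
  let b := finBasis K M
  let v : Fin l → V := fun i => (b (Fin.castLE hl i) : V)
  have hv : LinearIndependent K v := by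
    have h1 : LinearIndependent K (fun i : Fin l => b (Fin.castLE hl i)) :=
      b.linearIndependent.comp _ (Fin.castLE_injective hl)
    exact h1.map' M.subtype (LinearMap.ker_eq_bot.2 M.subtype_injective)
  refine ⟨Submodule.span K (Set.range v), ?_, ?_⟩
  · rw [Submodule.span_le]
    rintro _ ⟨i, rfl⟩
    exact (b (Fin.castLE hl i)).2
  · rw [finrank_span_eq_card hv, Fintype.card_fin]

/-- no totally singular subspace is larger than the anisotropic frame -/
theorem no_Om [FiniteDimensional K V] {l : ℕ} {e f : Fin l → V} (h : CForm.Frm F F' e f j) (hσ : F.σ = F'.σ)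
    (han : ∀ x, F'.Q x = 0 → x = 0) {M : Submodule K V} (hM : F.TS M) (hl : l < finrank K M) : False := by
  classical
  have hW := frm_mem h
  have hc := cmp_of_frm h hσ
  obtain ⟨M₁, hM₁, hM₁l⟩ := exists_sub hl.le
  have hM₁' : M₁ ∈ F.Om l := ⟨⟨fun w hw => hM.1 w (hM₁ hw), fun w hw w' hw' => hM.2 w (hM₁ hw) w' (hM₁ hw')⟩, hM₁l⟩
  obtain ⟨g, hg⟩ := F.trans_Om hM₁' hW
  have hgM : F.TS (M.map (F.iso.subtype g : V →ₗ[K] V)) := by
    refine ⟨?_, ?_⟩
    · rintro _ ⟨u, hu, rfl⟩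
      exact (F.iso_Q g u).trans (hM.1 u hu)
    · rintro _ ⟨u, hu, rfl⟩ _ ⟨v, hv, rfl⟩
      exact (F.iso_B g u v).trans (hM.2 u hu v hv)
  have hle : Submodule.span K (Set.range e) ≤ M.map (F.iso.subtype g : V →ₗ[K] V) := by
    rw [← hg]
    exact Submodule.map_mono hM₁
  have hlt : ∃ v ∈ M.map (F.iso.subtype g : V →ₗ[K] V), v ∉ Submodule.span K (Set.range e) := by
    by_contra hcon
    push Not at hcon
    have h1 : finrank K (M.map (F.iso.subtype g : V →ₗ[K] V)) ≤ l := by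
      rw [← hW.2]
      exact Submodule.finrank_mono hcon
    have h2 : finrank K (M.map (F.iso.subtype g : V →ₗ[K] V)) = finrank K M :=
      LinearEquiv.finrank_map_eq (F.iso.subtype g) M
    omega
  obtain ⟨v, hv, hv'⟩ := hlt
  have hvp : v ∈ F.perp (Submodule.span K (Set.range e)) := fun w hw => hgM.2 v hv w (hle hw)
  obtain ⟨w, hw, x, hx⟩ := hc.j2 v hvp
  have h3 : j x ∈ M.map (F.iso.subtype g : V →ₗ[K] V) := by
    have h4 : j x = v - w := by rw [hx]; abel
    rw [h4]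
    exact Submodule.sub_mem _ hv (hle hw)
  have h5 : F'.Q x = 0 := by
    rw [← h.hjQ]
    exact hgM.1 _ h3
  have h6 := han x h5
  apply hv'
  rw [hx, h6, map_zero, add_zero]
  exact hw

end witt

section psi

variable {K : Type} [Field K] [Finite K] {a b : K}
  (hab : ∀ z₁ z₂ : K, z₁ ^ 2 + a * z₁ * z₂ + b * z₂ ^ 2 = 0 → z₁ = 0 ∧ z₂ = 0)

include hab in
theorem anis (x : (Fin 0 ⊕ Fin 0) ⊕ Fin 2 → K) (h : (CForm.minusF K 0 a b hab).Q x = 0) : x = 0 := by
  have h1 : quadFormMinus 0 K a b x = 0 := h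
  unfold quadFormMinus at h1
  simp only [Finset.univ_eq_empty, Finset.sum_empty, zero_add] at h1
  obtain ⟨h2, h3⟩ := hab _ _ h1
  ext i
  rcases i with (i | i) | i
  · exact i.elim0
  · exact i.elim0
  · fin_cases i
    · exact h2
    · exact h3

/-- in `O⁻_4(q)` different points are not perpendicular -/
theorem not_perp {x y : (CForm.minusF K 1 a b hab).Pt} (hxy : x ≠ y) : ¬ (CForm.minusF K 1 a b hab).Perp x y := by
  intro hp
  obtain ⟨e, f, j, h⟩ := CForm.frm_minus (K := K) hab (show 1 + 0 = 1 by norm_num)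
  have hts : (CForm.minusF K 1 a b hab).TS (x.1 ⊔ y.1) := (CForm.minusF K 1 a b hab).TS_sup x.2.1 y.2.1 (fun u hu v hv =>
    hp u hu v hv)
  refine no_Om h rfl (anis hab) hts ?_
  have h1 : x.1 ⊓ y.1 = ⊥ := by
    by_contra hne
    have h2 : 0 < finrank K ↥(x.1 ⊓ y.1) := Nat.pos_of_ne_zero fun h0 => hne (Submodule.finrank_eq_zero.1 h0)
    have h3 : x.1 ⊓ y.1 = x.1 := Submodule.eq_of_le_of_finrank_le inf_le_left (by rw [x.2.2]; omega)
    have h4 : x.1 ⊓ y.1 = y.1 := Submodule.eq_of_le_of_finrank_le inf_le_right (by rw [y.2.2]; omega)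
    exact hxy (Subtype.ext (h3.symm.trans h4))
  have h2 := Submodule.finrank_sup_add_finrank_inf_eq x.1 y.1
  rw [h1, finrank_bot, x.2.2, y.2.2] at h2
  omega

/-- **the character of degree `q²` of `O⁻_4(q)`** -/
theorem exists_psi : ∃ ψ : (CForm.minusF K 1 a b hab).iso → ℂ, IsIrrCharacter _ ψ ∧
    ψ 1 = ((Nat.card K ^ 2 : ℕ) : ℂ) ∧
    ∀ (z : (CForm.minusF K 1 a b hab).iso) (c : Kˣ), (∀ v, (z : ((Fin 1 ⊕ Fin 1) ⊕ Fin 2 → K) ≃ₗ[K] ((Fin 1 ⊕ Fin 1) ⊕ Fin 2 → K)) v = (c : K) • v) → ψ z = ψ 1 := by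
  classical
  have hfin := Fintype.ofFinite K
  have hq : 2 ≤ Nat.card K := Finite.one_lt_card
  have hFi := finite_iso (CForm.minusF K 1 a b hab)
  have hFP : Finite (CForm.minusF K 1 a b hab).Pt := finite_Om (CForm.minusF K 1 a b hab) 1
  have hcard : Nat.card (CForm.minusF K 1 a b hab).Pt = Nat.card K ^ 2 + 1 := by
    have h1 := CForm.card_sing (F := CForm.minusF K 1 a b hab)
    have h2 := S0290.result (F := K) (q := Nat.card K) Nat.card_eq_fintype_card.symm 2 (by norm_num) a b hab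
    rw [card_Sing_quad, show Nat.card {v // (CForm.minusF K 1 a b hab).Q v = 0} = _ from h2] at h1
    obtain ⟨y, hy⟩ : ∃ y, Nat.card K = y + 1 := ⟨Nat.card K - 1, by omega⟩
    have hy0 : 0 < y := by omega
    rw [hy] at h1 ⊢
    rw [Nat.add_sub_cancel] at h1
    have e1 : (y + 1) ^ (2 * 2 - 1) + (y + 1) ^ (2 - 1) - (y + 1) ^ 2 = y * ((y + 1) ^ 2 + 1) + 1 := by
      have : (y + 1) ^ (2 * 2 - 1) + (y + 1) ^ (2 - 1) = y * ((y + 1) ^ 2 + 1) + 1 + (y + 1) ^ 2 := by
        norm_num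
        ring
      omega
    rw [e1] at h1
    exact Nat.eq_of_mul_eq_mul_left hy0 (by omega)
  have h2t : IsMultiplyPretransitive (CForm.minusF K 1 a b hab).iso (CForm.minusF K 1 a b hab).Pt 2 := by
    rw [is_two_pretransitive_iff]
    intro x y x' y' hxy hxy'
    exact CForm.trans_opp (F := CForm.minusF K 1 a b hab) (not_perp hab hxy) (not_perp hab hxy')
  have hpre : IsPretransitive (CForm.minusF K 1 a b hab).iso (CForm.minusF K 1 a b hab).Pt := by
    refine ⟨fun x y => ?_⟩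
    obtain ⟨g, hg⟩ := (CForm.minusF K 1 a b hab).trans_Om x.2 y.2
    exact ⟨g, Subtype.ext hg⟩
  have hirr := (S0157.result (G := (CForm.minusF K 1 a b hab).iso) (CForm.minusF K 1 a b hab).Pt (by
    rw [hcard]; nlinarith)).2 h2t
  have hval : ∀ z : (CForm.minusF K 1 a b hab).iso, (∀ x : (CForm.minusF K 1 a b hab).Pt, z • x = x) →
      (Nat.card (fixedBy (CForm.minusF K 1 a b hab).Pt z) : ℂ) - 1 = ((Nat.card K ^ 2 : ℕ) : ℂ) := by
    intro z hz
    have h3 : fixedBy (CForm.minusF K 1 a b hab).Pt z = Set.univ := Set.eq_univ_of_forall hz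
    rw [h3, Nat.card_univ, hcard]
    push_cast
    ring
  refine ⟨_, hirr, hval 1 fun x => one_smul _ x, fun z c hz => ?_⟩
  rw [hval 1 fun x => one_smul _ x]
  refine hval z fun x => ?_
  apply Subtype.ext
  rw [CForm.smul_val]
  exact map_eq_of_le (CForm.minusF K 1 a b hab).iso.subtype fun w hw => by
    change (z : ((Fin 1 ⊕ Fin 1) ⊕ Fin 2 → K) ≃ₗ[K] ((Fin 1 ⊕ Fin 1) ⊕ Fin 2 → K)) w ∈ x.1
    rw [hz]; exact x.1.smul_mem _ hw

/-- **one more character** -/
theorem t1_dn (p : ℕ) [Fact p.Prime] [CharP K p] (ho : Odd (Nat.card K)) {l : ℕ} (hl : 3 ≤ l) :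
    ∃ x, Dn (POmega K (quadFormMinus l K a b)) p (Nat.card K)
      (dg (CForm.minusF K l a b hab) (l - 1) * Nat.card K ^ 2) x := by
  classical
  have hq : 2 ≤ Nat.card K := Finite.one_lt_card
  have hq3 := q_ge_three hq ho
  obtain ⟨e, f, j, h⟩ := CForm.frm_minus (K := K) hab (show l - 1 + 1 = l by omega)
  obtain ⟨e0, f0, j0, h0⟩ := CForm.frm_minus (K := K) hab (Nat.add_zero l)
  obtain ⟨ψ, hψ, hψ1, hψz⟩ := exists_psi hab
  obtain ⟨hi, hi'⟩ := idx_minus K (p := p) hab hl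
  have hW : ∀ W' ∈ (CForm.minusF K l a b hab).Om (l - 1),
      Submodule.span K (Set.range e) ≤ (CForm.minusF K l a b hab).perp W' →
      Submodule.span K (Set.range e) ⊓ W' = ⊥ → False := by
    intro W' hW' h1 h2
    have hts := (CForm.minusF K l a b hab).TS_sup (frm_mem h).1 hW'.1 h1
    refine no_Om h0 rfl (anis hab) hts ?_
    have h3 := Submodule.finrank_sup_add_finrank_inf_eq (Submodule.span K (Set.range e)) W'
    rw [h2, finrank_bot, (frm_mem h).2, hW'.2] at h3
    omega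
  have key : ∀ {Z : Kˣ → Prop} {c : GL (Fin (l - 1)) K → ℂ} (hc : Cus K (l - 1) (RingHom.id K) Z c)
      (hcen : ∀ z : Omega K (quadFormMinus l K a b), z ∈ Subgroup.center (Omega K (quadFormMinus l K a b)) →
        ∃ a : Kˣ, Z a ∧ ∀ v, (omMat z).mulVec v = (a : K) • v), ∃ x, Dn (POmega K (quadFormMinus l K a b)) p (Nat.card K)
      (dg (CForm.minusF K l a b hab) (l - 1) * Nat.card K ^ 2) x := by
    intro Z c hc hcen
    obtain ⟨χ, hχ, hχ1, hχz⟩ := exists_hc (cmp_of_frm h rfl) (F := CForm.minusF K l a b hab) hc (frm_mem h) hψ hW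
    refine dn_of_iso (CForm.minusF K l a b hab) p (minus_hB K l a b hab) hχ (d := dg (CForm.minusF K l a b hab) (l - 1) *
      Nat.card K ^ 2) (by rw [hχ1, hψ1]; push_cast; ring) (fun z hz z' hz' => ?_) hi hi'
    obtain ⟨s, hs, hs'⟩ := hcen z hz
    refine hχz z' s (fun v => (hz' v).trans (hs' v)) fun z'' hz'' => ?_
    rw [hc.scal s hs, hψz z'' s hz'']
  rcases Nat.lt_or_ge l 4 with h4 | h4
  · obtain rfl : l = 3 := by omega
    have h5 := minus_idx_mul K a b hab (l := 3) le_rfl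
    have hg : Nat.gcd 4 (Nat.card K ^ (3 + 1) + 1) = 2 := by
      obtain ⟨y, hy⟩ := eight_dvd_even ho (n := 4) ⟨2, rfl⟩
      have h6 : 1 ≤ Nat.card K ^ 4 := Nat.one_le_pow _ _ (by omega)
      have h7 : (Nat.card K ^ (3 + 1) + 1) % 4 = 2 := by
        have : Nat.card K ^ (3 + 1) + 1 = 8 * y + 2 := by
          norm_num
          omega
        omega
      rw [Nat.gcd_rec, h7]
      decide
    have hcen := center_of_card K h5 (minus_idx_four K (p := p) ho a b hab 3) hg
    obtain ⟨c, hc⟩ := exists_cus_one (K := K) rfl 2 (by norm_num) (by nlinarith) (by rintro ⟨h, -⟩; omega)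
    exact key hc fun z hz => scal_one K (hcen z hz)
  · obtain ⟨c, hc⟩ := exists_cus_sq K rfl (l - 1) (by omega) (fun _ => by omega) (fun _ => by omega) (fun _ => by omega)
    exact key hc fun z hz => scal_of (cen_minus K (by omega) a b hab z hz)

end psi

/-! ### the row -/

section row

theorem sep_minus' {K : Type} [Field K] [Finite K] (p : ℕ) [Fact p.Prime] [CharP K p] {a b : K}
    (hab : ∀ z₁ z₂ : K, z₁ ^ 2 + a * z₁ * z₂ + b * z₂ ^ 2 = 0 → z₁ = 0 ∧ z₂ = 0) {l : ℕ} :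
    ∀ j k, 1 ≤ j → 1 ≤ k → j ≤ l → k ≤ l → j ≠ k →
      ∀ x x', Dn (POmega K (quadFormMinus l K a b)) p (Nat.card K) (dg (CForm.minusF K l a b hab) j) x →
      Dn (POmega K (quadFormMinus l K a b)) p (Nat.card K) (dg (CForm.minusF K l a b hab) k) x' → x ≠ x' :=
  fun _ _ h1 h3 h4 h5 h6 _ _ hx hx' => sep_minus K p hab h1 h3 h4 h5 h6 hx.2.1 hx'.2.1 hx.2.2.1 hx'.2.2.1

/-- the additional degree is different -/
theorem sep_t1 {K : Type} [Field K] [Finite K] (p : ℕ) [Fact p.Prime] [CharP K p] (ho : Odd (Nat.card K)) {a b : K}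
    (hab : ∀ z₁ z₂ : K, z₁ ^ 2 + a * z₁ * z₂ + b * z₂ ^ 2 = 0 → z₁ = 0 ∧ z₂ = 0) {l i k : ℕ} (hi : 1 ≤ i) (hil : i ≤ l)
    (hk : 1 ≤ k) (hkl : k ≤ l) {x x' : ℕ}
    (hx : Dn (POmega K (quadFormMinus l K a b)) p (Nat.card K) (dg (CForm.minusF K l a b hab) i * Nat.card K ^ 2) x)
    (hx' : Dn (POmega K (quadFormMinus l K a b)) p (Nat.card K) (dg (CForm.minusF K l a b hab) k) x') : x ≠ x' := by
  have hq : 2 ≤ Nat.card K := Finite.one_lt_card
  have hq3 := q_ge_three hq ho
  have hppi : pp p (dg (CForm.minusF K l a b hab) i * Nat.card K ^ 2) = pp p (dg (CForm.minusF K l a b hab) i) := by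
    rw [mul_comm, pp_q K p]
  have hne := dg_minus_ne K hab hi hil
  have hne' := dg_minus_ne K hab hk hkl
  have hne2 : dg (CForm.minusF K l a b hab) i * Nat.card K ^ 2 ≠ 0 := Nat.mul_ne_zero hne (by positivity)
  have hx0 : 0 < x := Nat.pos_of_ne_zero (by
    rintro rfl; exact hne2 (Nat.eq_zero_of_zero_dvd hx.2.1))
  have hx0' : 0 < x' := Nat.pos_of_ne_zero (by
    rintro rfl; exact hne' (Nat.eq_zero_of_zero_dvd hx'.2.1))
  have hch := chain (D := fun i => pp p (dg (CForm.minusF K l a b hab) i)) (cc_pos (Nat.card K)) (grow_minus K p hab)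
  rw [cc_odd ho] at hch
  have h4 : ∀ {d e : ℕ}, Dn (POmega K (quadFormMinus l K a b)) p (Nat.card K) d e → pp p (d / e) ≤ 4 := fun h =>
    (pp_le _).trans (Nat.le_of_dvd (by norm_num) h.2.2.2)
  rcases Nat.lt_trichotomy i k with h | h | h
  · refine sep_of_lt hx.2.1 hx'.2.1 hx0' hne2 (h4 hx') ?_
    rw [hppi]
    exact hch k i hi h hkl
  · subst h
    rintro rfl
    obtain ⟨-, ⟨t, ht⟩, -, h5⟩ := hx
    obtain ⟨-, ⟨t', ht'⟩, -, h6⟩ := hx'
    rw [ht', Nat.mul_div_cancel_left _ hx0] at h6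
    rw [ht, Nat.mul_div_cancel_left _ hx0] at h5
    rw [ht', mul_assoc] at ht
    have h7 := Nat.eq_of_mul_eq_mul_left hx0 ht
    have h8 : t ≤ 4 := Nat.le_of_dvd (by norm_num) h5
    have h9 : 1 ≤ t' := Nat.pos_of_dvd_of_pos h6 (by norm_num)
    have h10 : 3 ^ 2 ≤ Nat.card K ^ 2 := Nat.pow_le_pow_left hq3 2
    nlinarith
  · refine (sep_of_lt hx'.2.1 hx.2.1 hx0 hne' (h4 hx) ?_).symm
    rw [hppi]
    exact hch i k hk h hil

/-- **`Many` for `r = 2`**, with the rank 3 character and the additional one -/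
theorem many_two_t1 {K : Type} [Field K] [Finite K] (p : ℕ) [Fact p.Prime] [CharP K p] (ho : Odd (Nat.card K)) {a b : K}
    (hab : ∀ z₁ z₂ : K, z₁ ^ 2 + a * z₁ * z₂ + b * z₂ ^ 2 = 0 → z₁ = 0 ∧ z₂ = 0) {c l t L : ℕ} (hl : 3 ≤ l) (hc : 2 ≤ c)
    (hL : L + 1 ≤ l + 1 - c + 2)
    (hdn : ∀ k, c ≤ k → k ≤ l → ∃ x, Dn (POmega K (quadFormMinus l K a b)) p (Nat.card K)
      (dg (CForm.minusF K l a b hab) k) x)
    (h8 : ∀ k, 2 ≤ k → k ≤ l → 8 ∣ dg (CForm.minusF K l a b hab) k)
    (ht : Ch (POmega K (quadFormMinus l K a b)) t) (ht2 : 2 ∣ t) (ht0 : t ≠ 0)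
    (hlt : 4 * pp p t < pp p (dg (CForm.minusF K l a b hab) 2)) : Many 2 (POmega K (quadFormMinus l K a b)) (L + 1) := by
  let d : ℕ → ℕ := fun k => if k = 1 then dg (CForm.minusF K l a b hab) (l - 1) * Nat.card K ^ 2 else
    dg (CForm.minusF K l a b hab) k
  have hd1 : d 1 = dg (CForm.minusF K l a b hab) (l - 1) * Nat.card K ^ 2 := if_pos rfl
  have hdk : ∀ k, k ≠ 1 → d k = dg (CForm.minusF K l a b hab) k := fun k hk => if_neg hk
  have h1n : 1 ∉ Finset.Icc c l := by
    rw [Finset.mem_Icc]; omega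
  have h3 : (insert 1 (Finset.Icc c l)).card = l + 1 - c + 1 := by
    rw [Finset.card_insert_of_notMem h1n, Nat.card_Icc]
  have h4 : ({t} : Finset ℕ).card = 1 := Finset.card_singleton t
  have hmem : ∀ k, k ∈ insert 1 (Finset.Icc c l) → k = 1 ∨ (k ≠ 1 ∧ c ≤ k ∧ k ≤ l) := by
    intro k hk
    rcases Finset.mem_insert.1 hk with h | h
    · exact Or.inl h
    · rw [Finset.mem_Icc] at h
      exact Or.inr ⟨by omega, h⟩
  have hppi : pp p (dg (CForm.minusF K l a b hab) (l - 1) * Nat.card K ^ 2) =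
      pp p (dg (CForm.minusF K l a b hab) (l - 1)) := by
    rw [mul_comm, pp_q K p]
  refine (many_of_dn (p := p) (q := Nat.card K) (d := d) (insert 1 (Finset.Icc c l)) {t} Nat.prime_two (fun k hk => ?_)
    (fun j hj k hk hjk => ?_) (fun k hk => ?_) (fun x hx => ?_) (fun x hx k hk e he => ?_)).mono (by rw [h3, h4]; omega)
  · rcases hmem k hk with rfl | ⟨h, h', h''⟩
    · rw [hd1]; exact t1_dn hab p ho hl
    · rw [hdk k h]; exact hdn k h' h''
  · rcases hmem j hj with rfl | ⟨h, h', h''⟩ <;> rcases hmem k hk with rfl | ⟨g, g', g''⟩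
    · exact absurd rfl hjk
    · rw [hd1, hdk k g]
      exact fun e e' he he' => sep_t1 p ho hab (by omega) (by omega) (by omega) g'' he he'
    · rw [hd1, hdk j h]
      exact fun e e' he he' => (sep_t1 p ho hab (by omega) (by omega) (by omega) h'' he' he).symm
    · rw [hdk j h, hdk k g]
      exact sep_minus' p hab j k (by omega) (by omega) h'' g'' hjk
  · refine Or.inr ⟨rfl, ?_⟩
    rcases hmem k hk with rfl | ⟨h, h', h''⟩
    · rw [hd1]; exact Dvd.dvd.mul_right (h8 _ (by omega) (by omega)) _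
    · rw [hdk k h]; exact h8 k (by omega) h''
  · rw [Finset.mem_singleton.1 hx]
    exact ⟨ht, ht2⟩
  · rw [Finset.mem_singleton.1 hx]
    rcases hmem k hk with rfl | ⟨h, h', h''⟩
    · rw [hd1] at he
      refine he.ne_of_small ht0 (Nat.mul_ne_zero (dg_minus_ne K hab (by omega) (by omega)) ?_) ?_
      · have : 2 ≤ Nat.card K := Finite.one_lt_card
        positivity
      · rw [hppi]
        exact hlt.trans_le (mono_minus K p hab (by omega) (by omega))
    · rw [hdk k h] at he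
      exact he.ne_of_small ht0 (dg_minus_ne K hab (by omega) h'') (hlt.trans_le (mono_minus K p hab (by omega) h''))

theorem row_minus (T : H596.OneFacts.FactTwo.{u}) (I : H671.H5.FactIM.{u}) {K : Type} [Field K]
    [Finite K] (p : ℕ) [Fact p.Prime] [CharP K p] {a b : K}
    (hab : ∀ z₁ z₂ : K, z₁ ^ 2 + a * z₁ * z₂ + b * z₂ ^ 2 = 0 → z₁ = 0 ∧ z₂ = 0) {l : ℕ} (hl : 3 ≤ l)
    {S : Type u} [Group S] [Finite S]
    [IsSimpleGroup S] (iso : S ≃* POmega K (quadFormMinus l K a b)) {r : ℕ} (hr : r.Prime) (hd : r ∣ Nat.card S)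
    (hrp : r ≠ p) : Row r S := by
  have hq : 2 ≤ Nat.card K := Finite.one_lt_card
  have hcard : Fintype.card ((Fin l ⊕ Fin l) ⊕ Fin 2) = 2 * l + 2 := by
    simp only [Fintype.card_sum, Fintype.card_fin]; omega
  obtain ⟨e, he0, hed, he⟩ := exists_ord (K := K) (p := p) hr hrp
  have hbound := dlLe_pomega (quadFormMinus l K a b) hr (cast_ne_zero (K := K) (p := p) hr hrp) he0 he
  have hc : ¬ IsMulCommutative (POmega K (quadFormMinus l K a b)) := by
    obtain ⟨s, t, hs, -, h, -⟩ := rk3_minus K a b hab hl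
    refine not_comm_of_ch hs ?_
    rintro rfl
    have h3 : (Nat.card K : ℤ) ∣ ((Nat.card K : ℤ) ^ 2 - 1) * ((1 : ℕ) : ℤ) := by
      rw [h, sq, mul_assoc]; exact Dvd.intro _ rfl
    have h4 : (Nat.card K : ℤ) ∣ 1 := by
      have h5 : (Nat.card K : ℤ) ∣ (Nat.card K : ℤ) ^ 2 := Dvd.intro _ (sq _).symm
      have h6 := dvd_sub h5 h3
      have e1 : (Nat.card K : ℤ) ^ 2 - ((Nat.card K : ℤ) ^ 2 - 1) * ((1 : ℕ) : ℤ) = 1 := by push_cast; ring
      rwa [e1] at h6
    have h7 := Int.le_of_dvd (by norm_num) h4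
    omega
  have hsep := sep_minus' p hab (l := l)
  refine row_of iso hc T I hr hd hbound fun hL => ?_
  rcases Nat.lt_or_ge 2 r with hr3 | hr3
  · exact many_r p (CForm.minusF K l a b hab) hr hr3 he0 hed hL (w := l) (by rw [hcard]) rfl
      (fun k h3 h4 h5 => minus_dn K p hab hl h3 h4 (h5.imp id Or.inl)) hsep
  · have hr2 : r = 2 := by have := hr.two_le; omega
    subst hr2
    have ho : Odd (Nat.card K) := two_cases K hrp rfl
    have hq3 := q_ge_three hq ho
    have he1 : e = 1 := by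
      have h3 := he 1 one_pos (by
        obtain ⟨j, hj⟩ := ho
        exact ⟨j, by rw [pow_one]; omega⟩)
      omega
    subst he1
    rw [Nat.div_one] at hL ⊢
    have hlog : 2 ^ Nat.log 2 (Fintype.card ((Fin l ⊕ Fin l) ⊕ Fin 2)) ≤ 2 * l + 2 := by
      rw [← hcard]
      exact pow_log_le (by rw [hcard]; omega)
    have h8 : ∀ k, 2 ≤ k → k ≤ l → 8 ∣ dg (CForm.minusF K l a b hab) k := by
      intro k h3 h4
      rcases Nat.lt_or_ge 2 k with h5 | h5
      · exact eight_dvd_three K _ ho h5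
      · have : k = 2 := by omega
        rw [this]
        exact eight_minus K p hab ho hl
    by_cases hA : 4 ≤ Nat.card K ∨ Odd l
    · have hdn : ∀ k, 2 ≤ k → k ≤ l → ∃ x, Dn (POmega K (quadFormMinus l K a b)) p (Nat.card K)
          (dg (CForm.minusF K l a b hab) k) x := by
        intro k h3 h4
        refine minus_dn K p hab hl h3 h4 (Or.inr ?_)
        rcases Nat.lt_or_ge (Nat.card K) 4 with h5 | h5
        · exact Or.inr ⟨by omega, hA.resolve_left (by omega)⟩
        · exact Or.inl h5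
      rcases Nat.lt_or_ge l 5 with hm5 | hm5
      · have h34 : l = 3 ∨ l = 4 := by omega
        rcases h34 with rfl | rfl
        · obtain ⟨t, ht, ht2, ht0, hlt⟩ := rk_minus_three K p hab ho
          rw [hcard]
          exact many_two_t1 p ho hab (c := 2) le_rfl le_rfl (by norm_num [Nat.log]) hdn h8 ht ht2 ht0 hlt
        · obtain ⟨t, ht, ht2, ht0, hlt⟩ := rk_minus_four K p hab ho
          rw [hcard]
          exact many_two_t1 p ho hab (c := 2) (by norm_num) le_rfl (by norm_num [Nat.log]) hdn h8 ht ht2 ht0 hlt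
      · exact many_two p (CForm.minusF K l a b hab) (a := 2) (w := l) (by norm_num) (num_two hm5 hlog le_rfl) hdn hsep h8
    · push Not at hA
      have hdn : ∀ k, 3 ≤ k → k ≤ l → ∃ x, Dn (POmega K (quadFormMinus l K a b)) p (Nat.card K)
          (dg (CForm.minusF K l a b hab) k) x := fun k h3 h4 => minus_dn K p hab hl (by omega) h4 (Or.inl h3)
      rcases Nat.lt_or_ge l 5 with hm5 | hm5
      · have h3 : l ≠ 3 := fun h => by
          rw [h] at hA
          exact absurd hA.2 (by decide)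
        obtain rfl : l = 4 := by omega
        obtain ⟨t, ht, ht2, ht0, hlt⟩ := rk_minus_four K p hab ho
        rw [hcard]
        exact many_two_t1 p ho hab (c := 3) (by norm_num) (by norm_num) (by norm_num [Nat.log]) hdn h8 ht ht2 ht0 hlt
      · have h5 : l ≠ 5 := fun h => by
          rw [h] at hA
          exact absurd hA.2 (by decide)
        exact many_two p (CForm.minusF K l a b hab) (a := 3) (w := l) (by norm_num) (num_two' (by omega) hlog le_rfl)
          hdn hsep (fun k h3 h4 => h8 k (by omega) h4)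

end row

end Cfsg.Agent.H674.Dl
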