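import Cfsg.Agent.H674.Dl.OrthNum
import Cfsg.Agent.Characters.CCBasic

/-!
# The rows `PΩ` of S4769, `p` not the characteristic (helper674)

`row_odd`; `row_plus` (hypothesis: `DlLe 2 3` for `PΩ⁺_8(3)`); `row_minus` (hypotheses: one more degree for `PΩ⁻_8(q)` and
`PΩ⁻_10(3)`).
-/

set_option autoImplicit false

open Cfsg

namespace Cfsg.Agent.H674.Dl

open Module Cfsg.Agent.H53.HC Cfsg.Agent.H477.HC Cfsg.Agent.H749.Two Cfsg.Agent.H246.Dl

universe u v w

theorem not_comm_of_ch {Y : Type*} [Group Y] {d : ℕ} (h : Ch Y d) (hd : d ≠ 1) : ¬ IsMulCommutative Y := by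
  intro hc
  obtain ⟨χ, hχ, h1⟩ := h
  have h2 := Characters.CCBasic.irr_apply_one_of_comm (A := Y) (fun a b => hc.is_comm.comm a b) hχ
  rw [h2] at h1
  exact hd (by exact_mod_cast h1.symm)

/-- the final combination -/
theorem row_of {S : Type u} [Group S] [Finite S] [IsSimpleGroup S] {Y : Type v} [Group Y] (iso : S ≃* Y)
    (hc : ¬ IsMulCommutative Y) (T : H596.OneFacts.FactTwo.{u}) (I : H671.H5.FactIM.{u}) {r : ℕ} (hr : r.Prime)
    (hd : r ∣ Nat.card S) {L : ℕ} (hL : DlLe r (L + 1) Y) (hm : 2 ≤ L → Many r Y (L + 1)) : Row r S := by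
  have : Fact r.Prime := ⟨hr⟩
  rcases Nat.lt_or_ge L 2 with h | h
  · refine H759.Dl.row_of_dl_two T I (fun h1 => hc ?_) hr hd ((hL.of_equiv iso).mono (by omega))
    refine ⟨⟨fun a b => iso.symm.injective ?_⟩⟩
    rw [map_mul, map_mul]
    exact h1.is_comm.comm _ _
  · exact Row.of_equiv iso ⟨L + 1, hL, hm h⟩

section general

variable {K : Type} [Field K] (p : ℕ) {ι : Type} [Fintype ι] [DecidableEq ι]
  (F : CForm K (ι → K))

theorem ge_four_of_dvd {r q : ℕ} (hr : 3 ≤ r) (hq : 2 ≤ q) (h : r ∣ q ^ 1 - 1) : 4 ≤ q := by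
  rw [pow_one] at h
  have := Nat.le_of_dvd (by omega) h
  omega

/-- **`Many` for `r ≥ 3`** -/
theorem many_r [Finite K] {r e L w : ℕ} (hr : r.Prime) (hr3 : 3 ≤ r) (he : 0 < e) (hed : r ∣ Nat.card K ^ e - 1)
    (hL : 2 ≤ L) (hn : Fintype.card ι ≤ 2 * w + 2) (h : L = Nat.log r (Fintype.card ι / e))
    (hdn : ∀ k, 2 ≤ k → k ≤ w → (3 ≤ k ∨ 4 ≤ Nat.card K) → ∃ x, Dn (POmega K F.Q) p (Nat.card K) (dg F k) x)
    (hsep : ∀ j k, 1 ≤ j → 1 ≤ k → j ≤ w → k ≤ w → j ≠ k → ∀ x x', Dn (POmega K F.Q) p (Nat.card K) (dg F j) x →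
      Dn (POmega K F.Q) p (Nat.card K) (dg F k) x' → x ≠ x') : Many r (POmega K F.Q) (L + 1) := by
  have hq : 2 ≤ Nat.card K := Finite.one_lt_card
  have hx : Fintype.card ι / e ≠ 0 := by
    intro h0
    rw [h, h0, Nat.log_zero_right] at hL
    omega
  have h1 : r ^ L ≤ Fintype.card ι / e := by rw [h]; exact pow_log_le hx
  have h2 := num_r hr3 hL he h1 hn
  have h3 : (Finset.Icc (e + 1) w).card = w + 1 - (e + 1) := Nat.card_Icc _ _
  refine (many_of_dn' (p := p) (q := Nat.card K) (d := fun k => dg F k) (Finset.Icc (e + 1) w) hr (fun k hk => ?_)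
    (fun j hj k hk hjk => ?_) (fun k hk => ?_)).mono (by rw [h3]; exact h2)
  · rw [Finset.mem_Icc] at hk
    refine hdn k (by omega) hk.2 ?_
    rcases Nat.lt_or_ge 1 e with h4 | h4
    · exact Or.inl (by omega)
    · have h5 : e = 1 := by omega
      subst h5
      exact Or.inr (ge_four_of_dvd hr3 hq hed)
  · rw [Finset.mem_Icc] at hj hk
    exact hsep j k (by omega) (by omega) hj.2 hk.2 hjk
  · rw [Finset.mem_Icc] at hk
    exact Or.inl ⟨by omega, dvd_dg_of_ord K F he hed (by omega)⟩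

/-- **`Many` for `r = 2`**, large dimension -/
theorem many_two {a L w : ℕ} (ha : 1 ≤ a) (hL : L + 1 ≤ w + 1 - a)
    (hdn : ∀ k, a ≤ k → k ≤ w → ∃ x, Dn (POmega K F.Q) p (Nat.card K) (dg F k) x)
    (hsep : ∀ j k, 1 ≤ j → 1 ≤ k → j ≤ w → k ≤ w → j ≠ k → ∀ x x', Dn (POmega K F.Q) p (Nat.card K) (dg F j) x →
      Dn (POmega K F.Q) p (Nat.card K) (dg F k) x' → x ≠ x')
    (h8 : ∀ k, a ≤ k → k ≤ w → 8 ∣ dg F k) : Many 2 (POmega K F.Q) (L + 1) := by
  have h3 : (Finset.Icc a w).card = w + 1 - a := Nat.card_Icc _ _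
  refine (many_of_dn' (p := p) (q := Nat.card K) (d := fun k => dg F k) (Finset.Icc a w) Nat.prime_two (fun k hk => ?_)
    (fun j hj k hk hjk => ?_) (fun k hk => ?_)).mono (by rw [h3]; exact hL)
  · rw [Finset.mem_Icc] at hk
    exact hdn k hk.1 hk.2
  · rw [Finset.mem_Icc] at hj hk
    exact hsep j k (by omega) (by omega) hj.2 hk.2 hjk
  · rw [Finset.mem_Icc] at hk
    exact Or.inr ⟨rfl, h8 k hk.1 hk.2⟩

/-- **`Many` for `r = 2`**, with the rank 3 character -/
theorem many_two_rk {a L w t : ℕ} (ha : 2 ≤ a) (hL : L + 1 ≤ w + 1 - a + 1)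
    (hdn : ∀ k, a ≤ k → k ≤ w → ∃ x, Dn (POmega K F.Q) p (Nat.card K) (dg F k) x)
    (hsep : ∀ j k, 1 ≤ j → 1 ≤ k → j ≤ w → k ≤ w → j ≠ k → ∀ x x', Dn (POmega K F.Q) p (Nat.card K) (dg F j) x →
      Dn (POmega K F.Q) p (Nat.card K) (dg F k) x' → x ≠ x')
    (h8 : ∀ k, a ≤ k → k ≤ w → 8 ∣ dg F k) (ht : Ch (POmega K F.Q) t) (ht2 : 2 ∣ t) (ht0 : t ≠ 0)
    (hlt : 4 * pp p t < pp p (dg F 2)) (hmono : ∀ k, 2 ≤ k → k ≤ w → pp p (dg F 2) ≤ pp p (dg F k))
    (hne : ∀ k, 1 ≤ k → k ≤ w → dg F k ≠ 0) : Many 2 (POmega K F.Q) (L + 1) := by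
  have h3 : (Finset.Icc a w).card = w + 1 - a := Nat.card_Icc _ _
  have h4 : ({t} : Finset ℕ).card = 1 := Finset.card_singleton t
  refine (many_of_dn (p := p) (q := Nat.card K) (d := fun k => dg F k) (Finset.Icc a w) {t} Nat.prime_two (fun k hk => ?_)
    (fun j hj k hk hjk => ?_) (fun k hk => ?_) (fun x hx => ?_) (fun x hx k hk e he => ?_)).mono (by rw [h3, h4]; exact hL)
  · rw [Finset.mem_Icc] at hk
    exact hdn k hk.1 hk.2
  · rw [Finset.mem_Icc] at hj hk
    exact hsep j k (by omega) (by omega) hj.2 hk.2 hjk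
  · rw [Finset.mem_Icc] at hk
    exact Or.inr ⟨rfl, h8 k hk.1 hk.2⟩
  · rw [Finset.mem_singleton.1 hx]
    exact ⟨ht, ht2⟩
  · rw [Finset.mem_singleton.1 hx]
    rw [Finset.mem_Icc] at hk
    exact he.ne_of_small ht0 (hne k (by omega) hk.2) (hlt.trans_le (hmono k (by omega) hk.2))

end general

/-! ### odd dimension -/

theorem sep_odd' {K : Type} [Field K] [Finite K] (p : ℕ) [Fact p.Prime] [CharP K p] (h2 : (2 : K) ≠ 0)
    (ho : Odd (Nat.card K)) {m : ℕ} (hm : 3 ≤ m) : ∀ j k, 1 ≤ j → 1 ≤ k → j ≤ m → k ≤ m → j ≠ k →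
      ∀ x x', Dn (POmega K (quadFormOdd m K)) p (Nat.card K) (dg (CForm.oddF K m h2) j) x →
      Dn (POmega K (quadFormOdd m K)) p (Nat.card K) (dg (CForm.oddF K m h2) k) x' → x ≠ x' := by
  intro j k h1 h3 h4 h5 h6 x x' hx hx'
  have e1 := hx.2.2.1
  have e2 := hx'.2.2.1
  rw [cc_odd ho] at e1 e2
  exact sep_odd K p h2 ho hm h1 h3 h4 h5 h6 hx.2.1 hx'.2.1 e1 e2

theorem row_odd (T : H596.OneFacts.FactTwo.{u}) (I : H671.H5.FactIM.{u}) {K : Type} [Field K] [Finite K] (p : ℕ)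
    [Fact p.Prime] [CharP K p] (ho : Odd (Nat.card K)) {m : ℕ} (hm : 3 ≤ m) {S : Type u} [Group S] [Finite S]
    [IsSimpleGroup S] (iso : S ≃* POmega K (quadFormOdd m K)) {r : ℕ} (hr : r.Prime) (hd : r ∣ Nat.card S)
    (hrp : r ≠ p) : Row r S := by
  have h2 := two_ne_zero_of_odd (K := K) (p := p) ho
  have hq : 2 ≤ Nat.card K := Finite.one_lt_card
  have hq3 := q_ge_three hq ho
  have hcard : Fintype.card (Unit ⊕ (Fin m ⊕ Fin m)) = 2 * m + 1 := by
    simp only [Fintype.card_sum, Fintype.card_fin, Fintype.card_unit]; omega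
  obtain ⟨e, he0, hed, he⟩ := exists_ord (K := K) (p := p) hr hrp
  have hbound := dlLe_pomega (quadFormOdd m K) hr (cast_ne_zero (K := K) (p := p) hr hrp) he0 he
  have hc : ¬ IsMulCommutative (POmega K (quadFormOdd m K)) := by
    obtain ⟨s, t, hs, -, h, -⟩ := rk3_odd K h2 ho hm
    refine not_comm_of_ch hs ?_
    rintro rfl
    have h3 : (Nat.card K : ℤ) ∣ 2 * ((Nat.card K : ℤ) - 1) * ((1 : ℕ) : ℤ) := by
      rw [h, mul_assoc]; exact Dvd.intro _ rfl
    have h4 : (Nat.card K : ℤ) ∣ 2 := by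
      have h5 : (Nat.card K : ℤ) ∣ 2 * (Nat.card K : ℤ) := Dvd.intro_left _ rfl
      have h6 := dvd_sub h5 h3
      have e1 : 2 * (Nat.card K : ℤ) - 2 * ((Nat.card K : ℤ) - 1) * ((1 : ℕ) : ℤ) = 2 := by push_cast; ring
      rwa [e1] at h6
    have h7 := Int.le_of_dvd (by norm_num) h4
    omega
  refine row_of iso hc T I hr hd hbound fun hL => ?_
  have hsep := sep_odd' p h2 ho hm
  have hdn : ∀ k, 2 ≤ k → k ≤ m → ∃ x, Dn (POmega K (quadFormOdd m K)) p (Nat.card K) (dg (CForm.oddF K m h2) k) x :=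
    fun k h3 h4 => odd_dn K p h2 ho hm h3 h4
  rcases Nat.lt_or_ge 2 r with hr3 | hr3
  · exact many_r p (CForm.oddF K m h2) hr hr3 he0 hed hL (w := m) (by rw [hcard]; omega) rfl
      (fun k h3 h4 _ => hdn k h3 h4) hsep
  · have hr2 : r = 2 := by have := hr.two_le; omega
    subst hr2
    have he1 : e = 1 := by
      have h3 := he 1 one_pos (by
        obtain ⟨j, hj⟩ := ho
        exact ⟨j, by rw [pow_one]; omega⟩)
      omega
    subst he1
    rw [Nat.div_one] at hL ⊢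
    have hlog : 2 ^ Nat.log 2 (Fintype.card (Unit ⊕ (Fin m ⊕ Fin m))) ≤ 2 * m + 1 := by
      rw [← hcard]
      exact pow_log_le (by rw [hcard]; omega)
    have h8 : ∀ k, 2 ≤ k → k ≤ m → 8 ∣ dg (CForm.oddF K m h2) k := by
      intro k h3 h4
      rcases Nat.lt_or_ge 2 k with h5 | h5
      · exact eight_dvd_three K _ ho h5
      · have : k = 2 := by omega
        rw [this]
        exact eight_odd K p h2 ho hm
    rcases Nat.lt_or_ge m 5 with hm5 | hm5
    · have h34 : m = 3 ∨ m = 4 := by omega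
      rcases h34 with rfl | rfl
      · obtain ⟨t, ht, ht2, ht0, hlt⟩ := rk_odd_three K p h2 ho
        rw [hcard]
        exact many_two_rk p (CForm.oddF K 3 h2) (a := 2) (w := 3) le_rfl (by norm_num [Nat.log]) hdn hsep h8
          ht ht2 ht0 hlt (fun k h3 h4 => mono_odd K p h2 ho h3 h4) (fun k h3 h4 => dg_odd_ne K h2 ho h3 h4)
      · obtain ⟨t, ht, ht2, ht0, hlt⟩ := rk_odd_four K p h2 ho
        rw [hcard]
        exact many_two_rk p (CForm.oddF K 4 h2) (a := 2) (w := 4) le_rfl (by norm_num [Nat.log]) hdn hsep h8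
          ht ht2 ht0 hlt (fun k h3 h4 => mono_odd K p h2 ho h3 h4) (fun k h3 h4 => dg_odd_ne K h2 ho h3 h4)
    · exact many_two p (CForm.oddF K m h2) (a := 2) (w := m) (by norm_num) (num_two hm5 hlog (by omega)) hdn hsep h8

/-! ### plus type -/

theorem sep_plus' {K : Type} [Field K] [Finite K] (p : ℕ) [Fact p.Prime] [CharP K p] {m : ℕ} (hm : 4 ≤ m) :
    ∀ j k, 1 ≤ j → 1 ≤ k → j ≤ m → k ≤ m → j ≠ k →
      ∀ x x', Dn (POmega K (quadFormPlus m K)) p (Nat.card K) (dg (CForm.plusF K m) j) x →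
      Dn (POmega K (quadFormPlus m K)) p (Nat.card K) (dg (CForm.plusF K m) k) x' → x ≠ x' :=
  fun _ _ h1 h3 h4 h5 h6 _ _ hx hx' => sep_plus K p hm h1 h3 h4 h5 h6 hx.2.1 hx'.2.1 hx.2.2.1 hx'.2.2.1

/-- the remaining row `PΩ⁺_8(3)`, `r = 2` -/
def PlusEightThree : Prop := ∀ (K : Type) [Field K] [Finite K], Nat.card K = 3 → DlLe 2 3 (POmega K (quadFormPlus 4 K))

theorem row_plus (H : PlusEightThree) (T : H596.OneFacts.FactTwo.{u}) (I : H671.H5.FactIM.{u}) {K : Type} [Field K]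
    [Finite K] (p : ℕ) [Fact p.Prime] [CharP K p] {m : ℕ} (hm : 4 ≤ m) {S : Type u} [Group S] [Finite S]
    [IsSimpleGroup S] (iso : S ≃* POmega K (quadFormPlus m K)) {r : ℕ} (hr : r.Prime) (hd : r ∣ Nat.card S)
    (hrp : r ≠ p) : Row r S := by
  have hq : 2 ≤ Nat.card K := Finite.one_lt_card
  have hcard : Fintype.card (Fin m ⊕ Fin m) = 2 * m := by
    simp only [Fintype.card_sum, Fintype.card_fin]; omega
  obtain ⟨e, he0, hed, he⟩ := exists_ord (K := K) (p := p) hr hrp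
  have hbound := dlLe_pomega (quadFormPlus m K) hr (cast_ne_zero (K := K) (p := p) hr hrp) he0 he
  have hc : ¬ IsMulCommutative (POmega K (quadFormPlus m K)) := by
    obtain ⟨s, t, hs, -, h, -⟩ := rk3_plus K hm
    refine not_comm_of_ch hs ?_
    rintro rfl
    have h3 : (Nat.card K : ℤ) ∣ ((Nat.card K : ℤ) ^ 2 - 1) * ((1 : ℕ) : ℤ) := by
      rw [h, mul_assoc]; exact Dvd.intro _ rfl
    have h4 : (Nat.card K : ℤ) ∣ 1 := by
      have h5 : (Nat.card K : ℤ) ∣ (Nat.card K : ℤ) ^ 2 := Dvd.intro _ (sq _).symm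
      have h6 := dvd_sub h5 h3
      have e1 : (Nat.card K : ℤ) ^ 2 - ((Nat.card K : ℤ) ^ 2 - 1) * ((1 : ℕ) : ℤ) = 1 := by push_cast; ring
      rwa [e1] at h6
    have h7 := Int.le_of_dvd (by norm_num) h4
    omega
  have hsep := sep_plus' (K := K) p hm
  by_cases hex : r = 2 ∧ m = 4 ∧ Nat.card K = 3
  · obtain ⟨rfl, rfl, h3⟩ := hex
    have ho : Odd (Nat.card K) := by rw [h3]; decide
    refine row_of iso hc T I hr hd (L := 2) (H K h3) fun _ => ?_
    obtain ⟨t, ht, ht2, ht0, hlt⟩ := rk_plus_four K p ho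
    exact many_two_rk p (CForm.plusF K 4) (a := 3) (w := 4) (by norm_num) (by norm_num)
      (fun k h4 h5 => plus_dn K p le_rfl (by omega) h5 (Or.inl h4)) hsep (fun k h4 _ => eight_dvd_three K _ ho h4)
      ht ht2 ht0 hlt (fun k h4 h5 => mono_plus K p ho le_rfl h4 h5) (fun k h4 h5 => dg_plus_ne K h4 h5)
  refine row_of iso hc T I hr hd hbound fun hL => ?_
  rcases Nat.lt_or_ge 2 r with hr3 | hr3
  · exact many_r p (CForm.plusF K m) hr hr3 he0 hed hL (w := m) (by rw [hcard]; omega) rfl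
      (fun k h3 h4 h5 => plus_dn K p hm h3 h4 (h5.imp id Or.inl)) hsep
  · have hr2 : r = 2 := by have := hr.two_le; omega
    subst hr2
    have ho : Odd (Nat.card K) := two_cases K hrp rfl
    have hq3 := q_ge_three hq ho
    have he1 : e = 1 := by
      have h3 := he 1 one_pos (by
        obtain ⟨j, hj⟩ := ho
        exact ⟨j, by rw [pow_one]; omega⟩)
      omega
    subst he1
    rw [Nat.div_one] at hL ⊢
    have hlog : 2 ^ Nat.log 2 (Fintype.card (Fin m ⊕ Fin m)) ≤ 2 * m := by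
      rw [← hcard]
      exact pow_log_le (by rw [hcard]; omega)
    have h8 : ∀ k, 2 ≤ k → k ≤ m → 8 ∣ dg (CForm.plusF K m) k := by
      intro k h3 h4
      rcases Nat.lt_or_ge 2 k with h5 | h5
      · exact eight_dvd_three K _ ho h5
      · have : k = 2 := by omega
        rw [this]
        exact eight_plus K p ho hm
    by_cases hA : 4 ≤ Nat.card K ∨ Odd m
    · have hdn : ∀ k, 2 ≤ k → k ≤ m → ∃ x, Dn (POmega K (quadFormPlus m K)) p (Nat.card K) (dg (CForm.plusF K m) k) x := by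
        intro k h3 h4
        refine plus_dn K p hm h3 h4 (Or.inr ?_)
        rcases Nat.lt_or_ge (Nat.card K) 4 with h5 | h5
        · exact Or.inr ⟨by omega, hA.resolve_left (by omega)⟩
        · exact Or.inl h5
      rcases Nat.lt_or_ge m 5 with hm5 | hm5
      · obtain rfl : m = 4 := by omega
        obtain ⟨t, ht, ht2, ht0, hlt⟩ := rk_plus_four K p ho
        rw [hcard]
        exact many_two_rk p (CForm.plusF K 4) (a := 2) (w := 4) le_rfl (by norm_num [Nat.log]) hdn hsep h8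
          ht ht2 ht0 hlt (fun k h3 h4 => mono_plus K p ho le_rfl h3 h4) (fun k h3 h4 => dg_plus_ne K h3 h4)
      · exact many_two p (CForm.plusF K m) (a := 2) (w := m) (by norm_num) (num_two hm5 hlog (by omega)) hdn hsep h8
    · push Not at hA
      have hq' : Nat.card K = 3 := by omega
      have hm6 : 6 ≤ m := by
        have h4 : m ≠ 4 := fun h => hex ⟨rfl, h, hq'⟩
        have h5 : m ≠ 5 := fun h => by
          rw [h] at hA
          exact absurd hA.2 (by decide)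
        omega
      exact many_two p (CForm.plusF K m) (a := 3) (w := m) (by norm_num) (num_two' hm6 hlog (by omega))
        (fun k h3 h4 => plus_dn K p hm (by omega) h4 (Or.inl h3)) hsep (fun k h3 h4 => h8 k (by omega) h4)

end Cfsg.Agent.H674.Dl
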