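import Cfsg.Agent.H674.Dl.OrthDeg

/-!
# The degrees of the Harish-Chandra characters of the orthogonal groups are different (helper674, S4769)

`cc q` : `4` if `q` is odd, `1` if `q` is even;
`sep_odd`, `sep_plus`, `sep_minus` : if `e ∣ dg F j`, `e' ∣ dg F k`, `j ≠ k` and the parts prime to `p` of the quotients
divide `cc q`, then `e ≠ e'`.
-/

set_option autoImplicit false

open Cfsg

namespace Cfsg.Agent.H674.Dl

open Module Cfsg.Agent.H53.HC Cfsg.Agent.H477.HC Cfsg.Agent.H749.Two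

universe u v w

/-- `4` or `1` -/
def cc (q : ℕ) : ℕ := if Odd q then 4 else 1

theorem cc_odd {q : ℕ} (h : Odd q) : cc q = 4 := if_pos h

theorem cc_even {q : ℕ} (h : ¬ Odd q) : cc q = 1 := if_neg h

theorem cc_pos (q : ℕ) : 0 < cc q := by unfold cc; split <;> norm_num

section tops

theorem dvd_four {s : ℕ} (h : s ∣ 4) : s = 1 ∨ s = 2 ∨ s = 4 := by
  have h1 : s ≤ 4 := Nat.le_of_dvd (by norm_num) h
  interval_cases s
  · exact absurd h (by decide)
  · exact Or.inl rfl
  · exact Or.inr (Or.inl rfl)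
  · exact absurd h (by decide)
  · exact Or.inr (Or.inr rfl)

theorem exists_x {q m : ℕ} (hq : 2 ≤ q) (hm : 3 ≤ m) : ∃ x, q ^ (m - 1) = x + 1 ∧ q ^ m - 1 = q * x + (q - 1) ∧ q * q ≤ x + 1 := by
  have h1 : q ^ 2 ≤ q ^ (m - 1) := Nat.pow_le_pow_right (by omega) (by omega)
  have h2 : 1 ≤ q ^ (m - 1) := Nat.one_le_pow _ _ (by omega)
  refine ⟨q ^ (m - 1) - 1, by omega, ?_, by rw [← sq]; omega⟩
  have h3 : q ^ m = q * q ^ (m - 1) := by rw [← pow_succ']; congr 1; omega
  obtain ⟨x, hx⟩ : ∃ x, q ^ (m - 1) = x + 1 := ⟨q ^ (m - 1) - 1, by omega⟩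
  rw [h3, hx, Nat.add_sub_cancel, mul_add, mul_one]
  omega

theorem top_odd {q m s s' : ℕ} (hq : 3 ≤ q) (ho : Odd q) (hm : 3 ≤ m) (hs : s ∣ 4) (hs' : s' ∣ 4) :
    s * (q ^ m - 1) ≠ (q ^ 2 - 1) * s' * (q ^ (m - 1) - 1) := by
  obtain ⟨x, hx, hx', hxq⟩ := exists_x (by omega : 2 ≤ q) hm
  rw [hx', hx, Nat.add_sub_cancel]
  intro h
  rcases Nat.lt_or_ge q 4 with h4 | h4
  · have h3 : q = 3 := by omega
    subst h3
    rcases dvd_four hs with rfl | rfl | rfl <;> rcases dvd_four hs' with rfl | rfl | rfl <;> omega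
  · have h5 : 5 ≤ q := by
      rcases Nat.lt_or_ge q 5 with h5 | h5
      · have : q = 4 := by omega
        subst this
        exact absurd ho (by decide)
      · exact h5
    have h6 : s ≤ 4 := Nat.le_of_dvd (by norm_num) hs
    have h7 : 1 ≤ s' := Nat.pos_of_dvd_of_pos hs' (by norm_num)
    obtain ⟨y, rfl⟩ : ∃ y, q = y + 5 := ⟨q - 5, by omega⟩
    have e1 : (y + 5) ^ 2 - 1 = y * y + 10 * y + 24 := by
      have : (y + 5) ^ 2 = y * y + 10 * y + 25 := by ring
      omega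
    have e2 : y + 5 - 1 = y + 4 := by omega
    rw [e1, e2] at h
    have h8 : s * ((y + 5) * x + (y + 4)) ≤ 4 * ((y + 5) * x + (y + 4)) := Nat.mul_le_mul_right _ h6
    have h9 : (y * y + 10 * y + 24) * x ≤ (y * y + 10 * y + 24) * s' * x := by
      rw [mul_assoc]
      exact Nat.mul_le_mul_left _ (Nat.le_mul_of_pos_left _ h7)
    have h10 : 4 * ((y + 5) * x + (y + 4)) < (y * y + 10 * y + 24) * x := by nlinarith
    omega

theorem top_plus {q m s s' : ℕ} (hq : 3 ≤ q) (hm : 3 ≤ m) (hs : s ∣ 4) (hs' : s' ∣ 4) :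
    s * (q ^ m - 1) ≠ (2 * (q - 1)) * s' * (q ^ (m - 1) - 1) := by
  obtain ⟨x, hx, hx', hxq⟩ := exists_x (by omega : 2 ≤ q) hm
  rw [hx', hx, Nat.add_sub_cancel]
  intro h
  obtain ⟨y, rfl⟩ : ∃ y, q = y + 3 := ⟨q - 3, by omega⟩
  have e2 : y + 3 - 1 = y + 2 := by omega
  rw [e2] at h
  have h1 : (y + 3) * x + (y + 2) < (2 * (y + 2)) * x := by nlinarith
  have h2 : (2 * (y + 2)) * x < 2 * ((y + 3) * x + (y + 2)) := by nlinarith
  have h3 : ∀ a b : ℕ, b = 2 * (y + 2) * x → a = (y + 3) * x + (y + 2) → s * a = s' * b → False := by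
    intro a b hb ha hab
    rw [← ha, ← hb] at h1 h2
    rcases dvd_four hs with rfl | rfl | rfl <;> rcases dvd_four hs' with rfl | rfl | rfl <;> omega
  refine h3 _ _ rfl rfl ?_
  rw [h]
  ring

theorem top_plus_even {q m : ℕ} (hq : 2 ≤ q) (hm : 3 ≤ m) : q ^ m - 1 ≠ (q - 1) * (q ^ (m - 1) - 1) := by
  obtain ⟨x, hx, hx', hxq⟩ := exists_x hq hm
  rw [hx', hx, Nat.add_sub_cancel]
  obtain ⟨y, rfl⟩ : ∃ y, q = y + 2 := ⟨q - 2, by omega⟩
  have e2 : y + 2 - 1 = y + 1 := by omega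
  rw [e2]
  intro h
  nlinarith

theorem top_plus_two {q m : ℕ} (hq : 2 ≤ q) (hm : 4 ≤ m) :
    q ^ m - 1 < (q - 1) * (((q ^ 1 + 1) * (q ^ (1 + 1) - 1)) * (q ^ (m - 2) - 1)) := by
  have h1 : q ^ 2 ≤ q ^ (m - 2) := Nat.pow_le_pow_right (by omega) (by omega)
  obtain ⟨x, hx⟩ : ∃ x, q ^ (m - 2) = x + 1 := ⟨q ^ (m - 2) - 1, by
    have := Nat.one_le_pow (m - 2) q (by omega); omega⟩
  have h3 : q ^ m = q ^ 2 * q ^ (m - 2) := by rw [← pow_add]; congr 1; omega
  rw [h3, hx, Nat.add_sub_cancel]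
  obtain ⟨y, rfl⟩ : ∃ y, q = y + 2 := ⟨q - 2, by omega⟩
  have e2 : y + 2 - 1 = y + 1 := by omega
  have e3 : (y + 2) ^ (1 + 1) - 1 = y * y + 4 * y + 3 := by
    have : (y + 2) ^ (1 + 1) = y * y + 4 * y + 4 := by ring
    omega
  have e4 : (y + 2) ^ 2 * (x + 1) - 1 = (y * y + 4 * y + 4) * x + (y * y + 4 * y + 3) := by
    have : (y + 2) ^ 2 * (x + 1) = (y * y + 4 * y + 4) * x + (y * y + 4 * y + 4) := by ring
    omega
  rw [e2, e3, e4, pow_one]
  rw [hx] at h1
  have h5 : 3 ≤ x := by nlinarith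
  have h6 : (y + 2) ^ 2 = y * y + 4 * y + 4 := by ring
  rw [h6] at h1
  nlinarith [mul_nonneg (Nat.zero_le y) (Nat.zero_le x), Nat.zero_le (y * y * x), Nat.zero_le (y * y * y * x),
    Nat.zero_le (y * y * y * y * x)]

end tops

section sep

variable (K : Type u) [Field K] [Finite K] (p : ℕ) [Fact p.Prime] [CharP K p]

theorem q_ge_three {q : ℕ} (hq : 2 ≤ q) (ho : Odd q) : 3 ≤ q := by
  rcases ho with ⟨j, hj⟩; omega

omit [Fact p.Prime] in
/-- equal degrees give an equation -/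
theorem eq_of_eq {e d d' : ℕ} (he : e ∣ d) (he' : e ∣ d') (hd : d ≠ 0) {D D' x y R : ℕ} (hD : pp p d = D)
    (hD' : pp p d' = D') (h : D' * x = R * D * y) : pp p (d' / e) * x = R * pp p (d / e) * y := by
  have h1 : D' = pp p e * pp p (d' / e) := by
    rw [← pp_mul, Nat.mul_div_cancel' he', hD']
  have h2 : D = pp p e * pp p (d / e) := by
    rw [← pp_mul, Nat.mul_div_cancel' he, hD]
  have h3 : 0 < pp p e := pp_pos (by rintro rfl; exact hd (Nat.eq_zero_of_zero_dvd he))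
  apply Nat.eq_of_mul_eq_mul_left h3
  rw [h1, h2] at h
  linear_combination h

omit [Fact p.Prime] [CharP K p] in
theorem pp_pos_dg_odd (h2 : (2 : K) ≠ 0) (ho : Odd (Nat.card K)) {k m : ℕ} (hk : 0 < k) (hm : k ≤ m) :
    0 < pp p (dg (CForm.oddF K m h2) k) := pp_pos (dg_odd_ne K h2 ho hk hm)

theorem sep_odd_lt (h2 : (2 : K) ≠ 0) (ho : Odd (Nat.card K)) {m j k : ℕ} (hm : 3 ≤ m) (hj : 1 ≤ j) (hjk : j < k)
    (hk : k ≤ m) {e e' : ℕ} (he : e ∣ dg (CForm.oddF K m h2) j) (he' : e' ∣ dg (CForm.oddF K m h2) k)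
    (hs : pp p (dg (CForm.oddF K m h2) j / e) ∣ 4) (hs' : pp p (dg (CForm.oddF K m h2) k / e') ∣ 4) : e ≠ e' := by
  have hq : 2 ≤ Nat.card K := Finite.one_lt_card
  have hq3 := q_ge_three hq ho
  have he'0 : 0 < e' := Nat.pos_of_ne_zero (by
    rintro rfl; exact dg_odd_ne K h2 ho (by omega) hk (Nat.eq_zero_of_zero_dvd he'))
  have hsle : pp p (dg (CForm.oddF K m h2) k / e') ≤ 4 := Nat.le_of_dvd (by norm_num) hs'
  have hsq : 1 * (Nat.card K + 1) < Nat.card K ^ 2 - 1 := by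
    obtain ⟨y, hy⟩ : ∃ y, Nat.card K = y + 3 := ⟨Nat.card K - 3, by omega⟩
    rw [hy]
    have : (y + 3) ^ 2 = y * y + 6 * y + 9 := by ring
    have h0 : 0 ≤ y * y := Nat.zero_le _
    omega
  have hfour : 4 * (Nat.card K + 1) < Nat.card K ^ 4 - 1 := by
    obtain ⟨y, hy⟩ : ∃ y, Nat.card K = y + 3 := ⟨Nat.card K - 3, by omega⟩
    rw [hy]
    have h0 : (y + 3) ^ 4 = y ^ 4 + 12 * y ^ 3 + 54 * y ^ 2 + 108 * y + 81 := by ring
    have h1 : 0 ≤ y ^ 4 := Nat.zero_le _
    omega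
  have hstep : ∀ i, 1 < i → i ≤ m - 1 → 4 * pp p (dg (CForm.oddF K m h2) (i - 1)) < pp p (dg (CForm.oddF K m h2) i) := by
    intro i hi hi'
    refine grow hq hi (rec_odd K p h2 ho hi (show i + (m - i) = m by omega))
      (pp_pos_dg_odd K p h2 ho (by omega) (by omega)) (lt_of_lt_of_le hfour ?_)
    exact Nat.sub_le_sub_right (Nat.pow_le_pow_right (by omega) (by omega)) 1
  have htop : 1 * pp p (dg (CForm.oddF K m h2) (m - 1)) < pp p (dg (CForm.oddF K m h2) m) :=
    grow hq (by omega) (rec_odd K p h2 ho (by omega) (Nat.add_zero m))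
      (pp_pos_dg_odd K p h2 ho (by omega) (by omega)) hsq
  have hch := chain (D := fun i => pp p (dg (CForm.oddF K m h2) i)) (c := 4) (by norm_num) hstep
  rcases Nat.lt_or_ge k m with h3 | h3
  · exact sep_of_lt he he' he'0 (dg_odd_ne K h2 ho hj (by omega)) hsle (hch k j hj hjk (by omega))
  · have h4 : k = m := by omega
    subst h4
    rcases Nat.lt_or_ge j (k - 1) with h5 | h5
    · refine sep_of_lt he he' he'0 (dg_odd_ne K h2 ho hj (by omega)) hsle
        ((hch (k - 1) j hj h5 le_rfl).trans ?_)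
      rwa [one_mul] at htop
    · have h6 : j = k - 1 := by omega
      subst h6
      rintro rfl
      refine top_odd (q := Nat.card K) (m := k) hq3 ho hm hs' hs ?_
      exact eq_of_eq p he he' (dg_odd_ne K h2 ho (by omega) (by omega)) rfl rfl
        (rec_odd K p h2 ho (by omega) (Nat.add_zero k))

theorem sep_odd (h2 : (2 : K) ≠ 0) (ho : Odd (Nat.card K)) {m j k : ℕ} (hm : 3 ≤ m) (hj : 1 ≤ j) (hk : 1 ≤ k)
    (hjm : j ≤ m) (hkm : k ≤ m) (hjk : j ≠ k)
    {e e' : ℕ} (he : e ∣ dg (CForm.oddF K m h2) j) (he' : e' ∣ dg (CForm.oddF K m h2) k)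
    (hs : pp p (dg (CForm.oddF K m h2) j / e) ∣ 4) (hs' : pp p (dg (CForm.oddF K m h2) k / e') ∣ 4) : e ≠ e' := by
  rcases Nat.lt_or_gt_of_ne hjk with h | h
  · exact sep_odd_lt K p h2 ho hm hj h hkm he he' hs hs'
  · exact (sep_odd_lt K p h2 ho hm hk h hjm he' he hs' hs).symm

omit [Fact p.Prime] [CharP K p] in
theorem pp_pos_dg_plus {k m : ℕ} (hk : 0 < k) (hm : k ≤ m) : 0 < pp p (dg (CForm.plusF K m) k) :=
  pp_pos (dg_plus_ne K hk hm)

omit [Fact p.Prime] in
theorem p_even [hp : Fact p.Prime] (ho : ¬ Odd (Nat.card K)) : p = 2 := by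
  by_contra h
  exact ho (odd_of_two_ne (K := K) (p := p) h)

theorem pp_two_odd (ho : Odd (Nat.card K)) : pp p 2 = 2 := by
  refine pp_self fun h => ?_
  exact char_ne_two_of_odd (K := K) (p := p) ho ((Nat.prime_dvd_prime_iff_eq Fact.out Nat.prime_two).1 h)

theorem sep_plus_lt {m j k : ℕ} (hm : 4 ≤ m) (hj : 1 ≤ j) (hjk : j < k)
    (hk : k ≤ m) {e e' : ℕ} (he : e ∣ dg (CForm.plusF K m) j) (he' : e' ∣ dg (CForm.plusF K m) k)
    (hs : pp p (dg (CForm.plusF K m) j / e) ∣ cc (Nat.card K)) (hs' : pp p (dg (CForm.plusF K m) k / e') ∣ cc (Nat.card K)) :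
    e ≠ e' := by
  have hq : 2 ≤ Nat.card K := Finite.one_lt_card
  have he'0 : 0 < e' := Nat.pos_of_ne_zero (by
    rintro rfl; exact dg_plus_ne K (by omega) hk (Nat.eq_zero_of_zero_dvd he'))
  have hsle : pp p (dg (CForm.plusF K m) k / e') ≤ cc (Nat.card K) := Nat.le_of_dvd (cc_pos _) hs'
  have hfour : cc (Nat.card K) * (Nat.card K + 1) < (Nat.card K + 1) * (Nat.card K ^ 2 - 1) := by
    by_cases ho : Odd (Nat.card K)
    · rw [cc_odd ho]
      obtain ⟨y, hy⟩ : ∃ y, Nat.card K = y + 3 := ⟨Nat.card K - 3, by have := q_ge_three hq ho; omega⟩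
      rw [hy, mul_comm 4]
      refine Nat.mul_lt_mul_of_pos_left ?_ (by omega)
      have : (y + 3) ^ 2 = y * y + 6 * y + 9 := by ring
      have h0 : 0 ≤ y * y := Nat.zero_le _
      omega
    · rw [cc_even ho]
      obtain ⟨y, hy⟩ : ∃ y, Nat.card K = y + 2 := ⟨Nat.card K - 2, by omega⟩
      rw [hy, mul_comm 1]
      refine Nat.mul_lt_mul_of_pos_left ?_ (by omega)
      have : (y + 2) ^ 2 = y * y + 4 * y + 4 := by ring
      have h0 : 0 ≤ y * y := Nat.zero_le _
      omega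
  have hstep : ∀ i, 1 < i → i ≤ m - 1 →
      cc (Nat.card K) * pp p (dg (CForm.plusF K m) (i - 1)) < pp p (dg (CForm.plusF K m) i) := by
    intro i hi hi'
    refine grow hq hi (rec_plus K p hi (show 0 < m - i by omega) (show i + (m - i) = m by omega))
      (pp_pos_dg_plus K p (by omega) (by omega)) (lt_of_lt_of_le hfour (Nat.mul_le_mul ?_ ?_))
    · refine Nat.add_le_add_right ?_ 1
      calc Nat.card K = Nat.card K ^ 1 := (pow_one _).symm
        _ ≤ _ := Nat.pow_le_pow_right (by omega) (by omega)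
    · exact Nat.sub_le_sub_right (Nat.pow_le_pow_right (by omega) (by omega)) 1
  have hch := chain (D := fun i => pp p (dg (CForm.plusF K m) i)) (cc_pos (Nat.card K)) hstep
  have hrt := rec_plus_top K p (m := m) (by omega)
  rcases Nat.lt_or_ge k m with h3 | h3
  · exact sep_of_lt he he' he'0 (dg_plus_ne K hj (by omega)) hsle (hch k j hj hjk (by omega))
  · have h4 : k = m := by omega
    subst h4
    by_cases ho : Odd (Nat.card K)
    · have hq3 := q_ge_three hq ho
      rw [pp_two_odd K p ho] at hrt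
      rw [cc_odd ho] at hs hs' hch hsle
      rcases Nat.lt_or_ge j (k - 1) with h5 | h5
      · have htop : 1 * pp p (dg (CForm.plusF K k) (k - 1)) < pp p (dg (CForm.plusF K k) k) :=
          grow' hq (by omega) hrt (pp_pos_dg_plus K p (by omega) (by omega)) (by omega) (by norm_num)
        refine sep_of_lt he he' he'0 (dg_plus_ne K hj (by omega)) hsle ((hch (k - 1) j hj h5 le_rfl).trans ?_)
        rwa [one_mul] at htop
      · have h6 : j = k - 1 := by omega
        subst h6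
        rintro rfl
        refine top_plus (q := Nat.card K) (m := k) hq3 (by omega) hs' hs ?_
        exact eq_of_eq p he he' (dg_plus_ne K (by omega) (by omega)) rfl rfl hrt
    · have hp2 := p_even K p ho
      rw [cc_even ho] at hs hs' hch hsle
      have hp22 : pp p 2 = 1 := by
        subst hp2
        have := pp_pow Nat.prime_two 1
        rwa [pow_one] at this
      rw [hp22, one_mul] at hrt
      rcases Nat.lt_or_ge j (k - 1) with h5 | h5
      · have h6 : pp p (dg (CForm.plusF K k) j) ≤ pp p (dg (CForm.plusF K k) (k - 2)) := by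
          rcases Nat.lt_or_ge j (k - 2) with h7 | h7
          · have := hch (k - 2) j hj h7 (by omega)
            omega
          · have : j = k - 2 := by omega
            rw [this]
        have h7 : pp p (dg (CForm.plusF K k) (k - 2)) < pp p (dg (CForm.plusF K k) k) := by
          have h8 := rec_plus K p (k := k - 1) (n := 1) (m := k) (by omega) (by omega) (by omega)
          have e1 : k - 1 - 1 = k - 2 := by omega
          rw [e1] at h8
          have h9 := top_plus_two hq hm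
          have h10 : pp p (dg (CForm.plusF K k) k) * (Nat.card K ^ k - 1) =
              pp p (dg (CForm.plusF K k) (k - 2)) * ((Nat.card K - 1) *
                (((Nat.card K ^ 1 + 1) * (Nat.card K ^ (1 + 1) - 1)) * (Nat.card K ^ (k - 2) - 1))) := by
            rw [hrt]
            linear_combination (Nat.card K - 1) * h8
          have h11 := pp_pos_dg_plus K p (k := k - 2) (m := k) (by omega) (by omega)
          by_contra hcon
          rw [not_lt] at hcon
          have h12 := Nat.mul_lt_mul_of_pos_left h9 h11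
          rw [← h10] at h12
          exact absurd h12 (not_lt.2 (Nat.mul_le_mul_right _ hcon))
        exact sep_of_lt he he' he'0 (dg_plus_ne K hj (by omega)) hsle (by omega)
      · have h6 : j = k - 1 := by omega
        subst h6
        rintro rfl
        have h7 := eq_of_eq p he he' (dg_plus_ne K (by omega) (by omega)) rfl rfl hrt
        rw [Nat.dvd_one.1 hs, Nat.dvd_one.1 hs', one_mul, mul_one] at h7
        exact top_plus_even hq (by omega) h7

theorem sep_plus {m j k : ℕ} (hm : 4 ≤ m) (hj : 1 ≤ j) (hk : 1 ≤ k) (hjm : j ≤ m) (hkm : k ≤ m) (hjk : j ≠ k)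
    {e e' : ℕ} (he : e ∣ dg (CForm.plusF K m) j) (he' : e' ∣ dg (CForm.plusF K m) k)
    (hs : pp p (dg (CForm.plusF K m) j / e) ∣ cc (Nat.card K)) (hs' : pp p (dg (CForm.plusF K m) k / e') ∣ cc (Nat.card K)) :
    e ≠ e' := by
  rcases Nat.lt_or_gt_of_ne hjk with h | h
  · exact sep_plus_lt K p hm hj h hkm he he' hs hs'
  · exact (sep_plus_lt K p hm hk h hjm he' he hs' hs).symm

section minus

variable {a b : K} (hab : ∀ z₁ z₂ : K, z₁ ^ 2 + a * z₁ * z₂ + b * z₂ ^ 2 = 0 → z₁ = 0 ∧ z₂ = 0)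

include p in
theorem grow_minus {m : ℕ} : ∀ i, 1 < i → i ≤ m →
      cc (Nat.card K) * pp p (dg (CForm.minusF K m a b hab) (i - 1)) < pp p (dg (CForm.minusF K m a b hab) i) := by
  have hq : 2 ≤ Nat.card K := Finite.one_lt_card
  have hfour : cc (Nat.card K) * (Nat.card K + 1) < (Nat.card K - 1) * (Nat.card K ^ 2 + 1) := by
    by_cases ho : Odd (Nat.card K)
    · rw [cc_odd ho]
      obtain ⟨y, hy⟩ : ∃ y, Nat.card K = y + 3 := ⟨Nat.card K - 3, by have := q_ge_three hq ho; omega⟩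
      rw [hy]
      have e1 : y + 3 - 1 = y + 2 := by omega
      rw [e1]
      nlinarith [Nat.zero_le (y * y * y), Nat.zero_le (y * y)]
    · rw [cc_even ho]
      obtain ⟨y, hy⟩ : ∃ y, Nat.card K = y + 2 := ⟨Nat.card K - 2, by omega⟩
      rw [hy]
      have e1 : y + 2 - 1 = y + 1 := by omega
      rw [e1]
      nlinarith [Nat.zero_le (y * y * y), Nat.zero_le (y * y)]
  intro i hi hi'
  refine grow hq hi (rec_minus K p hab hi (show i + (m - i) = m by omega))
    (pp_pos (dg_minus_ne K hab (by omega) (by omega))) (lt_of_lt_of_le hfour (Nat.mul_le_mul ?_ ?_))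
  · refine Nat.sub_le_sub_right ?_ 1
    calc Nat.card K = Nat.card K ^ 1 := (pow_one _).symm
      _ ≤ _ := Nat.pow_le_pow_right (by omega) (by omega)
  · exact Nat.add_le_add_right (Nat.pow_le_pow_right (by omega) (by omega)) 1

theorem sep_minus_lt {m j k : ℕ} (hj : 1 ≤ j) (hjk : j < k)
    (hk : k ≤ m) {e e' : ℕ} (he : e ∣ dg (CForm.minusF K m a b hab) j) (he' : e' ∣ dg (CForm.minusF K m a b hab) k)
    (hs' : pp p (dg (CForm.minusF K m a b hab) k / e') ∣ cc (Nat.card K)) :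
    e ≠ e' := by
  have he'0 : 0 < e' := Nat.pos_of_ne_zero (by
    rintro rfl; exact dg_minus_ne K hab (by omega) hk (Nat.eq_zero_of_zero_dvd he'))
  exact sep_of_lt he he' he'0 (dg_minus_ne K hab hj (by omega)) (Nat.le_of_dvd (cc_pos _) hs')
    (chain (D := fun i => pp p (dg (CForm.minusF K m a b hab) i)) (cc_pos (Nat.card K)) (grow_minus K p hab) k j hj hjk hk)

theorem sep_minus {m j k : ℕ} (hj : 1 ≤ j) (hk : 1 ≤ k) (hjm : j ≤ m) (hkm : k ≤ m) (hjk : j ≠ k)
    {e e' : ℕ} (he : e ∣ dg (CForm.minusF K m a b hab) j) (he' : e' ∣ dg (CForm.minusF K m a b hab) k)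
    (hs : pp p (dg (CForm.minusF K m a b hab) j / e) ∣ cc (Nat.card K))
    (hs' : pp p (dg (CForm.minusF K m a b hab) k / e') ∣ cc (Nat.card K)) : e ≠ e' := by
  rcases Nat.lt_or_gt_of_ne hjk with h | h
  · exact sep_minus_lt K p hab hj h hkm he he' hs'
  · exact (sep_minus_lt K p hab hk h hjm he' he hs).symm

end minus

end sep

end Cfsg.Agent.H674.Dl
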